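import Groth.Agent.AlgSt.K736.Zmt.SecX

/-!
# Functors representable by schemes have a right adjoint (helper736)

`RAdj f`: final objects of the categories of arrows `f x ⟶ c`. `RAdj.cart`: the cartesian functor; `isEquivOver_toGs`: `𝒳` is the
category of its sections.
-/

set_option autoImplicit false

universe w v₃ u₃ v₂ u₂ v₁ u₁ v u

open CategoryTheory CategoryTheory.Limits Opposite K735.Fib K736.TopY K736.Fam K736.SecX

namespace K736.Adj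

variable {C : Type u} [Category.{v} C] {𝒳 : BasedCategory.{v₁, u₁} C} {𝒴 : BasedCategory.{v₂, u₂} C}

/-- Final objects of the categories of arrows `f x ⟶ c`. -/
structure RAdj (f : 𝒳 ⥤ᵇ 𝒴) where
  G : 𝒴.obj → 𝒳.obj
  ε : ∀ c : 𝒴.obj, f.obj (G c) ⟶ c
  lift : ∀ {x : 𝒳.obj} {c : 𝒴.obj} (_ : f.obj x ⟶ c), x ⟶ G c
  fac : ∀ {x : 𝒳.obj} {c : 𝒴.obj} (m : f.obj x ⟶ c), f.map (lift m) ≫ ε c = m
  uniq : ∀ {x : 𝒳.obj} {c : 𝒴.obj} (k k' : x ⟶ G c), f.map k ≫ ε c = f.map k' ≫ ε c → k = k'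

variable {f : 𝒳 ⥤ᵇ 𝒴} (R : RAdj f)

/-- functoriality -/
def RAdj.Gm {c d : 𝒴.obj} (g : d ⟶ c) : R.G d ⟶ R.G c := R.lift (R.ε d ≫ g)

theorem RAdj.Gm_fac {c d : 𝒴.obj} (g : d ⟶ c) : f.map (R.Gm g) ≫ R.ε c = R.ε d ≫ g := R.fac _

theorem RAdj.lift_Gm {x : 𝒳.obj} {c d : 𝒴.obj} (m : f.obj x ⟶ d) (g : d ⟶ c) : R.lift m ≫ R.Gm g = R.lift (m ≫ g) := by
  apply R.uniq
  rw [f.map_comp, Category.assoc, R.Gm_fac, R.fac, ← Category.assoc, R.fac]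

theorem RAdj.Gm_id (c : 𝒴.obj) : R.Gm (𝟙 c) = 𝟙 _ := by
  apply R.uniq
  rw [R.Gm_fac, f.map_id, Category.comp_id, Category.id_comp]

theorem RAdj.Gm_comp {b c d : 𝒴.obj} (g : d ⟶ c) (g' : c ⟶ b) : R.Gm (g ≫ g') = R.Gm g ≫ R.Gm g' := by
  apply R.uniq
  rw [R.Gm_fac, f.map_comp, Category.assoc, R.Gm_fac, ← Category.assoc, ← Category.assoc, R.Gm_fac]

theorem isFibGrpd_comp (h𝒳 : FibCat.IsFibGrpd 𝒳.p) : FibCat.IsFibGrpd (f.toFunctor ⋙ 𝒴.p) := by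
  rw [f.w]
  exact h𝒳

/-- The cartesian functor attached to `f`. -/
@[simps] def RAdj.cart (h𝒳 : FibCat.IsFibGrpd 𝒳.p) (h𝒴 : FibCat.IsFibGrpd 𝒴.p) : Cart 𝒴.p where
  X := {
    obj := fun c => 𝒴.p.obj (f.obj (R.G c))
    map := fun g => 𝒴.p.map (f.map (R.Gm g))
    map_id := fun c => by rw [R.Gm_id, f.map_id, 𝒴.p.map_id]
    map_comp := fun g g' => by rw [R.Gm_comp, f.map_comp, 𝒴.p.map_comp] }
  π := {
    app := fun c => 𝒴.p.map (R.ε c)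
    naturality := fun d c g => by
      change 𝒴.p.map (f.map (R.Gm g)) ≫ 𝒴.p.map (R.ε c) = 𝒴.p.map (R.ε d) ≫ 𝒴.p.map g
      rw [← 𝒴.p.map_comp, R.Gm_fac, 𝒴.p.map_comp] }
  cart d c g := by
    have hq := isFibGrpd_comp (f := f) h𝒳
    have key : ∀ {T : C} (t : T ⟶ 𝒴.p.obj (f.obj (R.G c))) (b : T ⟶ 𝒴.p.obj d)
        (_ : t ≫ 𝒴.p.map (R.ε c) = b ≫ 𝒴.p.map g), ∃ l : T ⟶ 𝒴.p.obj (f.obj (R.G d)),
          l ≫ 𝒴.p.map (f.map (R.Gm g)) = t ∧ l ≫ 𝒴.p.map (R.ε d) = b := by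
      intro T t b w
      obtain ⟨y, φ, e, hφ⟩ := exists_lift hq (x := R.G c) t
      subst e
      rw [eqToHom_refl, Category.id_comp] at hφ
      change 𝒴.p.map (f.map φ) = t at hφ
      subst hφ
      obtain ⟨χ, h1, h2⟩ := exists_hom h𝒴 g (f.map φ ≫ R.ε c) b (by rw [← w, 𝒴.p.map_comp])
      refine ⟨𝒴.p.map (f.map (R.lift χ)), ?_, ?_⟩
      · rw [← 𝒴.p.map_comp, ← f.map_comp]
        congr 2
        apply R.uniq
        rw [R.lift_Gm, R.fac, h2]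
      · rw [← 𝒴.p.map_comp, R.fac, h1]
    have huniq : ∀ {T : C} (t t' : T ⟶ 𝒴.p.obj (f.obj (R.G d))) (_ : t ≫ 𝒴.p.map (f.map (R.Gm g)) = t' ≫ 𝒴.p.map (f.map (R.Gm g)))
        (_ : t ≫ 𝒴.p.map (R.ε d) = t' ≫ 𝒴.p.map (R.ε d)), t = t' := by
      intro T t t' w w'
      obtain ⟨y, φ, e, hφ⟩ := exists_lift hq (x := R.G d) t
      subst e
      rw [eqToHom_refl, Category.id_comp] at hφ
      change 𝒴.p.map (f.map φ) = t at hφ
      subst hφ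
      obtain ⟨χ, h1, h2⟩ := exists_hom hq (R.Gm g) (φ ≫ R.Gm g) t' (by
        change t' ≫ 𝒴.p.map (f.map (R.Gm g)) = 𝒴.p.map (f.map (φ ≫ R.Gm g))
        rw [← w, f.map_comp, 𝒴.p.map_comp])
      change 𝒴.p.map (f.map χ) = t' at h1
      have h3 : χ = φ := by
        apply R.uniq
        refine hom_ext' h𝒴 g ?_ ?_
        · rw [𝒴.p.map_comp, 𝒴.p.map_comp, h1, ← w']
        · have h4 := congrArg (fun k => f.map k ≫ R.ε c) h2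
          rw [f.map_comp, f.map_comp, Category.assoc, Category.assoc, R.Gm_fac] at h4
          rw [Category.assoc, Category.assoc]
          exact h4
      rw [← h1, h3]
    refine ⟨⟨?_⟩, ⟨PullbackCone.IsLimit.mk _ (fun s => (key s.fst s.snd s.condition).choose)
      (fun s => (key s.fst s.snd s.condition).choose_spec.1) (fun s => (key s.fst s.snd s.condition).choose_spec.2)
      fun s m h1 h2 => huniq _ _ (h1.trans (key s.fst s.snd s.condition).choose_spec.1.symm)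
        (h2.trans (key s.fst s.snd s.condition).choose_spec.2.symm)⟩⟩
    change 𝒴.p.map (f.map (R.Gm g)) ≫ 𝒴.p.map (R.ε c) = 𝒴.p.map (R.ε d) ≫ 𝒴.p.map g
    rw [← 𝒴.p.map_comp, R.Gm_fac, 𝒴.p.map_comp]

variable (h𝒳 : FibCat.IsFibGrpd 𝒳.p) (h𝒴 : FibCat.IsFibGrpd 𝒴.p)

/-- the unit -/
def RAdj.unit (x : 𝒳.obj) : x ⟶ R.G (f.obj x) := R.lift (𝟙 _)

theorem RAdj.unit_fac (x : 𝒳.obj) : f.map (R.unit x) ≫ R.ε (f.obj x) = 𝟙 _ := R.fac _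

theorem RAdj.unit_Gm {x : 𝒳.obj} {c : 𝒴.obj} (m : f.obj x ⟶ c) : R.unit x ≫ R.Gm m = R.lift m := by
  rw [RAdj.unit, R.lift_Gm, Category.id_comp]

theorem RAdj.comp_unit {x x' : 𝒳.obj} (k : x ⟶ x') : k ≫ R.unit x' = R.lift (f.map k) := by
  apply R.uniq
  rw [f.map_comp, Category.assoc, R.unit_fac, Category.comp_id, R.fac]

/-- The section attached to an object. -/
def RAdj.sec (x : 𝒳.obj) : Sec (R.cart h𝒳 h𝒴) (f.obj x) where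
  s := 𝒴.p.map (f.map (R.unit x))
  hs := by
    change 𝒴.p.map (f.map (R.unit x)) ≫ 𝒴.p.map (R.ε (f.obj x)) = _
    rw [← 𝒴.p.map_comp, R.unit_fac, 𝒴.p.map_id]

theorem RAdj.sec_res {x x' : 𝒳.obj} (k : x ⟶ x') : (R.sec h𝒳 h𝒴 x').res (f.map k) = R.sec h𝒳 h𝒴 x := by
  apply Sec.eq_res
  change 𝒴.p.map (f.map (R.unit x)) ≫ 𝒴.p.map (f.map (R.Gm (f.map k))) = 𝒴.p.map (f.map k) ≫ 𝒴.p.map (f.map (R.unit x'))
  rw [← 𝒴.p.map_comp, ← 𝒴.p.map_comp, ← f.map_comp, ← f.map_comp, R.unit_Gm, R.comp_unit]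

variable {D : Type u₃} [Category.{v₃} D] {ι : D ⥤ 𝒴.obj} {𝔼 : CartDiag ι 𝒴.p}
  (jj : ∀ c : D, (R.cart h𝒳 h𝒴).X.obj (ι.obj c) ⟶ 𝔼.E.obj c)
  (hjj : ∀ c, jj c ≫ 𝔼.ε.app c = (R.cart h𝒳 h𝒴).π.app (ι.obj c))
  (hn : ∀ ⦃d c : D⦄ (g : d ⟶ c), (R.cart h𝒳 h𝒴).X.map (ι.map g) ≫ jj c = jj d ≫ 𝔼.E.map g)

/-- The functor to the category of sections. -/
noncomputable def RAdj.toGs : 𝒳 ⥤ᵇ K748.El.el (gs.{w} jj hjj hn) where
  toFunctor :=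
    { obj := fun x => ⟨⟨f.obj x, fam jj hjj hn (R.sec h𝒳 h𝒴 x)⟩, ⟨⟨R.sec h𝒳 h𝒴 x, rfl⟩⟩⟩
      map := fun {x x'} k => ⟨⟨f.map k, by
        change Fm.res (f.map k) (fam jj hjj hn (R.sec h𝒳 h𝒴 x')) = _
        rw [fam_res, R.sec_res]⟩, gs_ext _ _ _ (R.sec_res h𝒳 h𝒴 k)⟩
      map_id := fun x => by
        apply Stk.EltObj.hom_ext
        apply Stk.EltObj.hom_ext
        exact f.map_id x
      map_comp := fun k k' => by
        apply Stk.EltObj.hom_ext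
        apply Stk.EltObj.hom_ext
        exact f.map_comp k k' }
  w := f.w

theorem isEquivOver_toGs : FibCat.IsEquivOver (R.toGs.{w} h𝒳 h𝒴 jj hjj hn) := by
  have hq := isFibGrpd_comp (f := f) h𝒳
  refine isEquivOver_of ?_ ?_ ?_
  · intro x x' k k' e
    have h1 : f.map k = f.map k' := congrArg (fun t => t.hom.hom) e
    refine hom_ext' hq (R.unit x') ?_ ?_
    · change 𝒴.p.map (f.map k) = 𝒴.p.map (f.map k')
      rw [h1]
    · rw [R.comp_unit, R.comp_unit, h1]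
  · intro x x' φ
    let φ₀ : f.obj x ⟶ f.obj x' := φ.hom.hom
    have h1 : (R.sec h𝒳 h𝒴 x').res φ₀ = R.sec h𝒳 h𝒴 x := congrArg (fun t => t.down.1) φ.map_sec
    have h2 : 𝒴.p.map (f.map (R.unit x)) ≫ 𝒴.p.map (f.map (R.Gm φ₀)) = 𝒴.p.map φ₀ ≫ 𝒴.p.map (f.map (R.unit x')) := by
      have := (R.sec h𝒳 h𝒴 x').res_map φ₀
      rw [h1] at this
      exact this
    obtain ⟨k, hk, hk'⟩ := exists_hom hq (R.unit x') (R.unit x ≫ R.Gm φ₀) (𝒴.p.map φ₀) (by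
      change 𝒴.p.map φ₀ ≫ 𝒴.p.map (f.map (R.unit x')) = 𝒴.p.map (f.map (R.unit x ≫ R.Gm φ₀))
      rw [← h2, f.map_comp, 𝒴.p.map_comp])
    refine ⟨k, Stk.EltObj.hom_ext (Stk.EltObj.hom_ext ?_)⟩
    change f.map k = φ₀
    rw [R.comp_unit, R.unit_Gm] at hk'
    rw [← R.fac (f.map k), hk', R.fac]
  · intro y
    let z : 𝒴.obj := y.base.base
    let t : Sec (R.cart h𝒳 h𝒴) z := y.sec.down.1
    have ht : fam jj hjj hn t = y.base.sec := y.sec.down.2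
    obtain ⟨x, φ, e, hφ⟩ := exists_lift hq (x := R.G z) t.s
    have e' : 𝒴.p.obj (f.obj x) = 𝒴.p.obj z := e
    let t₀ : 𝒴.p.obj z ⟶ 𝒴.p.obj (f.obj (R.G z)) := t.s
    have hφ' : 𝒴.p.map (f.map φ) = eqToHom e' ≫ t₀ := hφ
    let m : f.obj x ⟶ z := f.map φ ≫ R.ε z
    have hm : 𝒴.p.map m = eqToHom e' := by
      rw [𝒴.p.map_comp, hφ', Category.assoc]
      have : t₀ ≫ 𝒴.p.map (R.ε z) = 𝟙 _ := t.hs
      rw [this, Category.comp_id]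
    have hres : t.res m = R.sec h𝒳 h𝒴 x := by
      apply Sec.eq_res
      change 𝒴.p.map (f.map (R.unit x)) ≫ 𝒴.p.map (f.map (R.Gm m)) = 𝒴.p.map m ≫ t₀
      rw [hm, ← hφ', ← 𝒴.p.map_comp, ← f.map_comp]
      congr 2
      apply R.uniq
      rw [R.unit_Gm, R.fac]
    have hm1 : Fm.res m y.base.sec = fam jj hjj hn (R.sec h𝒳 h𝒴 x) := by
      rw [← ht, fam_res, hres]
    let M₀ : ((R.toGs.{w} h𝒳 h𝒴 jj hjj hn).obj x).base ⟶ y.base := ⟨m, hm1⟩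
    let M : (R.toGs.{w} h𝒳 h𝒴 jj hjj hn).obj x ⟶ y := ⟨M₀, gs_ext _ _ _ hres⟩
    have hV : Vert (K748.El.el (gs.{w} jj hjj hn)).p M := vert_of_map_eq e' hm
    have := hV.isIso (K748.El.isFibGrpd_el _ (K748.El.isFibGrpd_el _ h𝒴))
    exact ⟨x, asIso M, hV⟩

end K736.Adj
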