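import Groth.Agent.AlgSt.K735.Fp
import Groth.Agent.AlgSt.K738.SecRep

/-!
# Spans: elementwise description of the fibre product of `f : 𝒳 ⟶ 𝒴` with an object of `𝒴` (helper736)
-/

set_option autoImplicit false
set_option backward.isDefEq.respectTransparency false
set_option backward.isDefEq.respectTransparency.types false

universe w v₃ u₃ v₂ u₂ v u

open CategoryTheory CategoryTheory.Limits AlgebraicGeometry Opposite K735.Fib K735.Fp AlgSp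

namespace K736.Span

variable {S : Scheme.{u}} {𝒳 : BasedCategory.{v₂, u₂} (Over S)} {𝒴 : BasedCategory.{v₃, u₃} (Over S)}

/-- The sheaf `F ⟶ h_(p c)` classifies the pairs of an object `x` and an arrow `f x ⟶ c`. -/
structure SpanRep (f : 𝒳 ⥤ᵇ 𝒴) (c : 𝒴.obj) (F : Sp S) (π : F ⟶ (yon S).obj (𝒴.p.obj c)) where
  sec : ∀ (x : 𝒳.obj) (_ : f.obj x ⟶ c), F.obj.obj (op (𝒴.p.obj (f.obj x)))
  map : ∀ {x x' : 𝒳.obj} (k : x ⟶ x') (m' : f.obj x' ⟶ c) (m : f.obj x ⟶ c) (_ : f.map k ≫ m' = m),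
    F.obj.map (𝒴.p.map (f.map k)).op (sec x' m') = sec x m
  full : ∀ {x x' : 𝒳.obj} (m : f.obj x ⟶ c) (m' : f.obj x' ⟶ c) (g : 𝒴.p.obj (f.obj x) ⟶ 𝒴.p.obj (f.obj x')),
    F.obj.map g.op (sec x' m') = sec x m → ∃ k : x ⟶ x', 𝒴.p.map (f.map k) = g ∧ f.map k ≫ m' = m
  faithful : ∀ {x x' : 𝒳.obj} (m' : f.obj x' ⟶ c) (k k' : x ⟶ x'), 𝒴.p.map (f.map k) = 𝒴.p.map (f.map k') →
    f.map k ≫ m' = f.map k' ≫ m' → k = k'
  surj : ∀ {T : Over S} (s : F.obj.obj (op T)), ∃ (x : 𝒳.obj) (m : f.obj x ⟶ c) (e : T = 𝒴.p.obj (f.obj x)),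
    F.obj.map (eqToHom e).op (sec x m) = s
  proj : ∀ (x : 𝒳.obj) (m : f.obj x ⟶ c), π.hom.app _ (sec x m) = ⟨𝒴.p.map m⟩

section Obj

variable (h𝒴 : FibCat.IsFibGrpd 𝒴.p) (f : 𝒳 ⥤ᵇ 𝒴) (c : 𝒴.obj)

/-- the canonical arrow of the value of `yonF c` to `c` -/
noncomputable def toC (t : (FibCat.overCat (𝒴.p.obj c)).obj) : (yonF h𝒴 c rfl).obj t ⟶ c :=
  (yonF h𝒴 c rfl).map (toId t) ≫ (yonFIso h𝒴 c rfl).hom

theorem p_toC (t : (FibCat.overCat (𝒴.p.obj c)).obj) :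
    𝒴.p.map (toC h𝒴 c t) = eqToHom ((yonF h𝒴 c rfl).w_obj t) ≫ t.hom := by
  rw [toC, 𝒴.p.map_comp, map_map, (vert_yonFIso h𝒴 c rfl).map_eq]
  simp
  rfl

theorem map_toC {t t' : (FibCat.overCat (𝒴.p.obj c)).obj} (g : t ⟶ t') :
    (yonF h𝒴 c rfl).map g ≫ toC h𝒴 c t' = toC h𝒴 c t := by
  rw [toC, toC, ← Category.assoc, ← (yonF h𝒴 c rfl).map_comp]
  congr 2
  exact Over.OverMorphism.ext (Over.w g)

theorem exists_theta {z : 𝒴.obj} (m : z ⟶ c) :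
    ∃ θ : (yonF h𝒴 c rfl).obj (Over.mk (𝒴.p.map m)) ⟶ z, Vert 𝒴.p θ ∧ θ ≫ m = toC h𝒴 c _ := by
  obtain ⟨θ, h1, h2⟩ := exists_hom h𝒴 m (toC h𝒴 c (Over.mk (𝒴.p.map m)))
    (eqToHom ((yonF h𝒴 c rfl).w_obj (Over.mk (𝒴.p.map m)))) (p_toC h𝒴 c _).symm
  exact ⟨θ, vert_of_map_eq _ h1, h2⟩

/-- the comparison -/
noncomputable def theta {z : 𝒴.obj} (m : z ⟶ c) : (yonF h𝒴 c rfl).obj (Over.mk (𝒴.p.map m)) ⟶ z :=
  (exists_theta h𝒴 c m).choose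

theorem vert_theta {z : 𝒴.obj} (m : z ⟶ c) : Vert 𝒴.p (theta h𝒴 c m) := (exists_theta h𝒴 c m).choose_spec.1

theorem theta_comp {z : 𝒴.obj} (m : z ⟶ c) : theta h𝒴 c m ≫ m = toC h𝒴 c _ := (exists_theta h𝒴 c m).choose_spec.2

theorem isIso_theta {z : 𝒴.obj} (m : z ⟶ c) : IsIso (theta h𝒴 c m) := (vert_theta h𝒴 c m).isIso h𝒴

theorem theta_nat {z z' : 𝒴.obj} (k : z ⟶ z') (m' : z' ⟶ c) (m : z ⟶ c) (e : k ≫ m' = m)
    (g : (Over.mk (𝒴.p.map m) : (FibCat.overCat (𝒴.p.obj c)).obj) ⟶ Over.mk (𝒴.p.map m')) (hg : g.left = 𝒴.p.map k) :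
    (yonF h𝒴 c rfl).map g ≫ theta h𝒴 c m' = theta h𝒴 c m ≫ k := by
  refine hom_ext' h𝒴 m' ?_ ?_
  · rw [𝒴.p.map_comp, 𝒴.p.map_comp, map_map, (vert_theta h𝒴 c m').map_eq, (vert_theta h𝒴 c m).map_eq, ← hg]
    simp
    rfl
  · have h1 : theta h𝒴 c m ≫ k ≫ m' = toC h𝒴 c _ := (congrArg (theta h𝒴 c m ≫ ·) e).trans (theta_comp h𝒴 c m)
    exact (Category.assoc _ _ _).trans ((congrArg (_ ≫ ·) (theta_comp h𝒴 c m')).trans
      ((map_toC h𝒴 c g).trans (h1.symm.trans (Category.assoc _ _ _).symm)))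

/-- the object of the fibre product -/
noncomputable def fpObj (x : 𝒳.obj) (m : f.obj x ⟶ c) : (FibCat.fp (yonF h𝒴 c rfl) f).obj :=
  have := isIso_theta h𝒴 c m
  mkFp _ _ (Over.mk (𝒴.p.map m)) x (asIso (theta h𝒴 c m)) (vert_theta h𝒴 c m)

/-- the morphism of the fibre product -/
noncomputable def fpHom {x x' : 𝒳.obj} (k : x ⟶ x') (m' : f.obj x' ⟶ c) (m : f.obj x ⟶ c) (e : f.map k ≫ m' = m) :
    fpObj h𝒴 f c x m ⟶ fpObj h𝒴 f c x' m' :=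
  homFp (Over.homMk (𝒴.p.map (f.map k)) (by
    change 𝒴.p.map (f.map k) ≫ 𝒴.p.map m' = 𝒴.p.map m
    rw [← 𝒴.p.map_comp, e])) k (by
    exact theta_nat h𝒴 c (f.map k) m' m e _ rfl)

theorem nonempty_spanRep {F : Sp S} {π : F ⟶ (yon S).obj (𝒴.p.obj c)}
    (R : K738.SecRep (FibCat.fpFst (yonF h𝒴 c rfl) f) F π) : Nonempty (SpanRep f c F π) := by
  refine ⟨{
    sec := fun x m => R.sec (fpObj h𝒴 f c x m)
    map := fun k m' m e => R.map (fpHom h𝒴 f c k m' m e)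
    full := ?_
    faithful := ?_
    surj := ?_
    proj := ?_ }⟩
  · intro x x' m m' g hg
    obtain ⟨M, hM⟩ := R.full (z := fpObj h𝒴 f c x m) (z' := fpObj h𝒴 f c x' m') g hg
    have h1 : (yonF h𝒴 c rfl).map M.hom.fst ≫ theta h𝒴 c m' = theta h𝒴 c m ≫ f.map M.hom.snd := fp_w M
    have h2 : M.hom.fst.left = g := hM
    have h3 : 𝒴.p.map (f.map M.hom.snd) = g := by
      have h4 := congrArg 𝒴.p.map h1
      rw [𝒴.p.map_comp, 𝒴.p.map_comp, map_map, (vert_theta h𝒴 c m').map_eq, (vert_theta h𝒴 c m).map_eq] at h4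
      rw [← h2]
      refine (cancel_epi (eqToHom (vert_theta h𝒴 c m).eq.symm)).1 (h4.symm.trans ?_)
      simp
      rfl
    refine ⟨M.hom.snd, h3, ?_⟩
    have := isIso_theta h𝒴 c m
    rw [← cancel_epi (theta h𝒴 c m), ← reassoc_of% h1, theta_comp, theta_comp]
    exact map_toC h𝒴 c M.hom.fst
  · intro x x' m' k k' h1 h2
    have h3 : fpHom h𝒴 f c k m' (f.map k ≫ m') rfl = fpHom h𝒴 f c k' m' (f.map k ≫ m') h2.symm :=
      R.faithful _ _ h1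
    exact congrArg (fun t => t.hom.snd) h3
  · intro T s
    obtain ⟨z, e, hz⟩ := R.surj s
    let i : (yonF h𝒴 c rfl).obj z.obj.fst ≅ f.obj z.obj.snd := z.obj.iso
    have hi : Vert 𝒴.p i.hom := fp_vert z
    let m : f.obj z.obj.snd ⟶ c := i.inv ≫ toC h𝒴 c z.obj.fst
    have hm : 𝒴.p.map m = eqToHom (hi.eq.trans ((yonF h𝒴 c rfl).w_obj z.obj.fst)) ≫ z.obj.fst.hom := by
      rw [𝒴.p.map_comp, (Vert.iso_inv hi).map_eq, p_toC]
      simp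
    have e' : z.obj.fst.left = 𝒴.p.obj (f.obj z.obj.snd) := (hi.eq.trans ((yonF h𝒴 c rfl).w_obj z.obj.fst)).symm
    have he' : eqToHom e' ≫ 𝒴.p.map m = z.obj.fst.hom := by rw [hm]; simp
    -- the morphism in the fibre product
    let M : z ⟶ fpObj h𝒴 f c z.obj.snd m := homFp (Over.homMk (eqToHom e') he') (𝟙 _) (by
      change (yonF h𝒴 c rfl).map _ ≫ theta h𝒴 c m = i.hom ≫ f.map (𝟙 _)
      rw [f.map_id, Category.comp_id]
      refine hom_ext' h𝒴 m ?_ ?_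
      · rw [𝒴.p.map_comp, map_map, (vert_theta h𝒴 c m).map_eq, hi.map_eq]
        simp only [Category.assoc, eqToHom_trans]
        change eqToHom _ ≫ eqToHom e' ≫ eqToHom _ = _
        rw [eqToHom_trans, eqToHom_trans]
      · rw [Category.assoc, theta_comp, Iso.hom_inv_id_assoc]
        exact map_toC h𝒴 c _)
    refine ⟨z.obj.snd, m, e.trans e', ?_⟩
    have h1 := R.map M
    rw [← hz, ← h1]
    change _ = F.obj.map (eqToHom e).op (F.obj.map (eqToHom e').op _)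
    have h2 : ∀ {A B D : Over S} (e₁ : A = B) (e₂ : B = D) (t : F.obj.obj (op D)),
        F.obj.map (eqToHom (e₁.trans e₂)).op t = F.obj.map (eqToHom e₁).op (F.obj.map (eqToHom e₂).op t) := by
      rintro A _ _ rfl rfl t
      simp
    exact h2 e e' _
  · intro x m
    have h1 := R.proj (fpObj h𝒴 f c x m)
    refine h1.trans ?_
    congr 1

include h𝒴 in
theorem exists_spanRep {P : MorphismProperty (Sp S)} {f : 𝒳 ⥤ᵇ 𝒴} (hf : AlgSt.RepByAlgSpWith P f) (c : 𝒴.obj) :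
    ∃ (F : Sp S) (π : F ⟶ (yon S).obj (𝒴.p.obj c)), IsAlgSpace F ∧ P π ∧ Nonempty (SpanRep f c F π) := by
  obtain ⟨F, e, he, hP⟩ := hf (𝒴.p.obj c) (yonF h𝒴 c rfl)
  obtain ⟨R⟩ := K738.SecRep.nonempty_of_equiv _ e he
  exact ⟨F.obj, _, F.property, hP, nonempty_spanRep h𝒴 f c R⟩

end Obj

end K736.Span
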