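import Groth.Agent.AlgSt.K736.Zmt.Adj
import Groth.Agent.AlgSt.K736.Zmt.Span
import Groth.Agent.AlgSt.K738.RespIso
import Groth.Agent.AlgSt.K735.Top
import Groth.Agent.AlgSt.K738.YonProps
import Groth.Agent.AlgSp.K613.LqfSch

/-!
# The right adjoint of a separated, quasi-finite functor (helper736)
-/

set_option autoImplicit false
set_option backward.isDefEq.respectTransparency false
set_option backward.isDefEq.respectTransparency.types false

universe w v₃ u₃ v₂ u₂ v u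

open CategoryTheory CategoryTheory.Limits AlgebraicGeometry Opposite K735.Fib K735.Fp AlgSp K736.Span

namespace K736.Adj

variable {S : Scheme.{u}} {𝒳 : BasedCategory.{v₂, u₂} (Over S)} {𝒴 : BasedCategory.{v₃, u₃} (Over S)}

theorem yon_down_map {A W W' : Over S} (g : W' ⟶ W) (x : ((yon S).obj A).obj.obj (op W)) :
    (((yon S).obj A).obj.map g.op x).down = g ≫ x.down := rfl

open K594.Elem in
theorem secEquiv_yon {A B : Over S} (g : A ⟶ B) : secEquiv ((yon S).map g) = (⟨g⟩ : ((yon S).obj B).obj.obj (op A)) := by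
  have := yonEquiv_apply ((yon S).map g) (𝟙 A)
  rw [map_id_apply] at this
  rw [← this]
  exact (congrArg ULift.up (Category.id_comp g) : (⟨𝟙 A ≫ g⟩ : ((yon S).obj B).obj.obj (op A)) = ⟨g⟩)

open K594.Elem in
theorem sec_comp {G H : Sp S} {W : Over S} (t : (yon S).obj W ⟶ G) (q : G ⟶ H) :
    secEquiv (t ≫ q) = q.hom.app (op W) (secEquiv t) := rfl

/-- A representable category of arrows `f x ⟶ c` has a final object. -/
theorem exists_final {f : 𝒳 ⥤ᵇ 𝒴} {c : 𝒴.obj} {A : Over S} {π : (yon S).obj A ⟶ (yon S).obj (𝒴.p.obj c)}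
    (R : SpanRep f c ((yon S).obj A) π) :
    ∃ (x₀ : 𝒳.obj) (m₀ : f.obj x₀ ⟶ c) (i : 𝒴.p.obj (f.obj x₀) ≅ A), (yon S).map i.hom ≫ π = (yon S).map (𝒴.p.map m₀) ∧
      (∀ (x : 𝒳.obj) (m : f.obj x ⟶ c), ∃ k : x ⟶ x₀, f.map k ≫ m₀ = m) ∧
      ∀ (x : 𝒳.obj) (k k' : x ⟶ x₀), f.map k ≫ m₀ = f.map k' ≫ m₀ → k = k' := by
  obtain ⟨x₀, m₀, e, hs⟩ := R.surj (T := A) ⟨𝟙 A⟩
  have hs' : eqToHom e ≫ (R.sec x₀ m₀).down = 𝟙 A := congrArg ULift.down hs
  have hd : (R.sec x₀ m₀).down = eqToHom e.symm := by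
    rw [← cancel_epi (eqToHom e), hs', eqToHom_trans, eqToHom_refl]
  refine ⟨x₀, m₀, eqToIso e.symm, ?_, ?_, ?_⟩
  · apply K594.Elem.secEquiv.injective
    rw [sec_comp, secEquiv_yon, secEquiv_yon, ← R.proj]
    congr 1
    exact (congrArg ULift.up hd).symm
  · intro x m
    obtain ⟨k, -, hk⟩ := R.full m m₀ ((R.sec x m).down ≫ eqToHom e) (by
      apply ULift.down_injective
      rw [yon_down_map, hd, Category.assoc, eqToHom_trans, eqToHom_refl, Category.comp_id])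
    exact ⟨k, hk⟩
  · intro x k k' h
    refine R.faithful m₀ k k' ?_ h
    have h1 := congrArg ULift.down (R.map k m₀ (f.map k ≫ m₀) rfl)
    have h2 := congrArg ULift.down (R.map k' m₀ (f.map k ≫ m₀) h.symm)
    have h3 := h1.trans h2.symm
    rw [yon_down_map, yon_down_map, hd] at h3
    exact (cancel_mono _).1 h3

theorem hom_inv_app {F F' : Sp S} (i : F' ≅ F) (T : (Over S)ᵒᵖ) (x : F.obj.obj T) :
    i.hom.hom.app T (i.inv.hom.app T x) = x := by
  have h := congrArg (fun q : F ⟶ F => q.hom.app T x) i.inv_hom_id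
  exact h

/-- Transport along an isomorphism. -/
def spanRepIso {f : 𝒳 ⥤ᵇ 𝒴} {c : 𝒴.obj} {F F' : Sp S} {π : F ⟶ (yon S).obj (𝒴.p.obj c)} (R : SpanRep f c F π)
    (i : F' ≅ F) : SpanRep f c F' (i.hom ≫ π) where
  sec x m := i.inv.hom.app _ (R.sec x m)
  map k m' m h := by
    rw [← R.map k m' m h]
    exact (NatTrans.naturality_apply i.inv.hom _ _).symm
  full m m' g h := by
    refine R.full m m' g ?_
    rw [← hom_inv_app i _ (R.sec _ m), ← h]
    refine Eq.trans ?_ (NatTrans.naturality_apply i.hom.hom _ _).symm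
    rw [hom_inv_app]
  faithful m' k k' h1 h2 := R.faithful m' k k' h1 h2
  surj {T} s := by
    obtain ⟨x, m, e, h⟩ := R.surj (i.hom.hom.app _ s)
    refine ⟨x, m, e, ?_⟩
    have h1 : i.inv.hom.app (op T) (i.hom.hom.app (op T) s) = s := hom_inv_app i.symm _ s
    rw [← h1, ← h]
    exact (NatTrans.naturality_apply i.inv.hom _ _).symm
  proj x m := by
    rw [← R.proj x m]
    change π.hom.app _ (i.hom.hom.app _ (i.inv.hom.app _ (R.sec x m))) = _
    rw [hom_inv_app]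

theorem lqf_of_yon {U V : Over S} (h : U ⟶ V) (H : LocP (@LocallyQuasiFinite ⊓ @LocallyOfFiniteType) ((yon S).map h)) :
    LocallyQuasiFinite h.left ∧ LocallyOfFiniteType h.left :=
  H (𝟙 _) (𝟙 _) h (AlgSp.repWith_id _ U) (AlgSp.repWith_id _ V) (by simp)

/-- The right adjoint. -/
theorem exists_radj (h𝒴 : FibCat.IsFibGrpd 𝒴.p) {f : 𝒳 ⥤ᵇ 𝒴}
    (hsep : AlgSt.RepByAlgSpWith AlgSp.IsSeparatedMor f)
    (hqf : AlgSt.RepByAlgSpWith (AlgSp.LocP (@LocallyQuasiFinite ⊓ @LocallyOfFiniteType)) f)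
    (hqc : AlgSt.RepByAlgSpWith AlgSp.IsQuasiCompactMor f) :
    ∃ R : RAdj f, ∀ c : 𝒴.obj, LocallyQuasiFinite (𝒴.p.map (R.ε c)).left ∧ LocallyOfFiniteType (𝒴.p.map (R.ε c)).left ∧
      QuasiCompact (𝒴.p.map (R.ε c)).left ∧ IsSeparated (𝒴.p.map (R.ε c)).left := by
  have h1 : AlgSt.RepByAlgSpWith ((AlgSp.IsSeparatedMor ⊓ AlgSp.LocP (@LocallyQuasiFinite ⊓ @LocallyOfFiniteType)) ⊓
      AlgSp.IsQuasiCompactMor) f := K735.Top.repByAlgSpWith_inf (K735.Top.repByAlgSpWith_inf hsep hqf) hqc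
  have key : ∀ c : 𝒴.obj, ∃ (x₀ : 𝒳.obj) (m₀ : f.obj x₀ ⟶ c),
      (LocallyQuasiFinite (𝒴.p.map m₀).left ∧ LocallyOfFiniteType (𝒴.p.map m₀).left ∧
      QuasiCompact (𝒴.p.map m₀).left ∧ IsSeparated (𝒴.p.map m₀).left) ∧
      (∀ (x : 𝒳.obj) (m : f.obj x ⟶ c), ∃ k : x ⟶ x₀, f.map k ≫ m₀ = m) ∧
      ∀ (x : 𝒳.obj) (k k' : x ⟶ x₀), f.map k ≫ m₀ = f.map k' ≫ m₀ → k = k' := by
    intro c
    obtain ⟨F, π, hF, ⟨⟨p1, p2⟩, p3⟩, ⟨R⟩⟩ := exists_spanRep h𝒴 h1 c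
    obtain ⟨A, ⟨i⟩⟩ := K613.exists_iso_of_lqf hF π p2 p1
    obtain ⟨x₀, m₀, i₀, e₀, hex, hun⟩ := exists_final (spanRepIso R i)
    refine ⟨x₀, m₀, ?_, hex, hun⟩
    have e₁ : (yon S).map (𝒴.p.map m₀) = ((yon S).mapIso i₀ ≪≫ i).hom ≫ π := by
      rw [← e₀, Iso.trans_hom, Functor.mapIso_hom, Category.assoc]
    have q1 : AlgSp.IsSeparatedMor ((yon S).map (𝒴.p.map m₀)) := by
      rw [e₁]
      exact (MorphismProperty.cancel_left_of_respectsIso _ _ _).2 p1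
    have q2 : AlgSp.LocP (@LocallyQuasiFinite ⊓ @LocallyOfFiniteType) ((yon S).map (𝒴.p.map m₀)) := by
      rw [e₁]
      exact (MorphismProperty.cancel_left_of_respectsIso _ _ _).2 p2
    have q3 : AlgSp.IsQuasiCompactMor ((yon S).map (𝒴.p.map m₀)) := by
      rw [e₁]
      exact (MorphismProperty.cancel_left_of_respectsIso _ _ _).2 p3
    exact ⟨(lqf_of_yon _ q2).1, (lqf_of_yon _ q2).2, (K738.isQuasiCompactMor_yon_iff _).1 q3,
      (isSeparatedMor_yon_map_iff _).1 q1⟩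
  choose G ε hP hex hun using key
  choose l hl using hex
  exact ⟨⟨G, fun c => ε c, fun {x c} m => l c x m, fun {x c} m => hl c x m, fun {x c} k k' h => hun c x k k' h⟩, hP⟩

end K736.Adj
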