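import Groth.Agent.AlgSt.K600.FlatMem

/-!
# Flat base change of submodules, in terms of ring homomorphisms (helper736)
-/

set_option autoImplicit false
set_option backward.isDefEq.respectTransparency false
set_option linter.style.haveILetI false
set_option linter.unusedVariables false

universe u

open CategoryTheory CategoryTheory.Limits TensorProduct

namespace K736.Alg

section Sp

variable {E Q T : Type*} [CommRing E] [CommRing Q] [CommRing T]

/-- The additive subgroup generated by the products of elements of `E` and `N`. -/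
def sp (i : E →+* T) (j : Q →+* T) (N : AddSubgroup Q) : AddSubgroup T :=
  AddSubgroup.closure {x | ∃ e, ∃ n ∈ N, i e * j n = x}

variable {i : E →+* T} {j : Q →+* T} {N : AddSubgroup Q}

theorem mul_mem_sp (e : E) {n : Q} (hn : n ∈ N) : i e * j n ∈ sp i j N :=
  AddSubgroup.subset_closure ⟨e, n, hn, rfl⟩

theorem mem_sp {n : Q} (hn : n ∈ N) : j n ∈ sp i j N := by
  simpa using mul_mem_sp (i := i) (j := j) 1 hn

theorem sp_le {K : AddSubgroup T} (h : ∀ e, ∀ n ∈ N, i e * j n ∈ K) : sp i j N ≤ K := by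
  refine (AddSubgroup.closure_le _).2 ?_
  rintro _ ⟨e, n, hn, rfl⟩
  exact h e n hn

theorem smul_mem {x : T} (e : E) (hx : x ∈ sp i j N) : i e * x ∈ sp i j N := by
  have : sp i j N ≤ (sp i j N).comap (AddMonoidHom.mulLeft (i e)) := by
    refine sp_le fun e' n hn => ?_
    change i e * (i e' * j n) ∈ sp i j N
    rw [← mul_assoc, ← map_mul]
    exact mul_mem_sp _ hn
  exact this hx

theorem sp_mono {N' : AddSubgroup Q} (h : N ≤ N') : sp i j N ≤ sp i j N' :=
  sp_le fun e _ hn => mul_mem_sp e (h hn)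

theorem map_mem {E' T' : Type*} [CommRing E'] [CommRing T'] {ε : E →+* E'} {τ : T →+* T'} {i' : E' →+* T'}
    {j' : Q →+* T'} (h : τ.comp i = i'.comp ε) (hj : τ.comp j = j') {x : T} (hx : x ∈ sp i j N) : τ x ∈ sp i' j' N := by
  have : sp i j N ≤ (sp i' j' N).comap τ.toAddMonoidHom := by
    refine sp_le fun e n hn => ?_
    change τ (i e * j n) ∈ sp i' j' N
    rw [map_mul, show τ (i e) = i' (ε e) from congr($h e), show τ (j n) = j' n from congr($hj n)]
    exact mul_mem_sp _ hn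
  exact this hx

/-- Transitivity. -/
theorem sp_sp {E' T' : Type*} [CommRing E'] [CommRing T'] {ε : E →+* E'} {τ : T →+* T'} {i' : E' →+* T'}
    {j' : Q →+* T'} (h : τ.comp i = i'.comp ε) (hj : τ.comp j = j') : sp i' τ (sp i j N) = sp i' j' N := by
  refine le_antisymm (sp_le fun e x hx => ?_) (sp_le fun e n hn => ?_)
  · exact smul_mem _ (map_mem h hj hx)
  · rw [← hj]
    exact mul_mem_sp e (mem_sp hn)

theorem mul_mem (hN : ∀ x ∈ N, ∀ y ∈ N, x * y ∈ N) {x y : T} (hx : x ∈ sp i j N) (hy : y ∈ sp i j N) :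
    x * y ∈ sp i j N := by
  have : sp i j N ≤ (sp i j N).comap (AddMonoidHom.mulRight y) := by
    refine sp_le fun e n hn => ?_
    change i e * j n * y ∈ sp i j N
    have h2 : sp i j N ≤ (sp i j N).comap (AddMonoidHom.mulLeft (i e * j n)) := by
      refine sp_le fun e' n' hn' => ?_
      change i e * j n * (i e' * j n') ∈ sp i j N
      have : i e * j n * (i e' * j n') = i (e * e') * j (n * n') := by rw [map_mul, map_mul]; ring
      rw [this]
      exact mul_mem_sp _ (hN _ hn _ hn')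
    exact h2 hy
  exact this hx

theorem one_mem (hN : (1 : Q) ∈ N) : (1 : T) ∈ sp i j N := by
  simpa using mem_sp (i := i) (j := j) hN

/-- Finite generation. -/
theorem exists_finset {s : Set Q} (hs : ∀ n ∈ N, n ∈ AddSubgroup.closure s) {x : T} (hx : x ∈ sp i j N) :
    ∃ t : Finset Q, (t : Set Q) ⊆ s ∧ x ∈ sp i j (AddSubgroup.closure (t : Set Q)) := by
  classical
  have h1 : ∀ n ∈ AddSubgroup.closure s, ∃ t : Finset Q, (t : Set Q) ⊆ s ∧ n ∈ AddSubgroup.closure (t : Set Q) := by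
    intro n hn
    induction hn using AddSubgroup.closure_induction with
    | mem x hx => exact ⟨{x}, by simpa using hx, AddSubgroup.subset_closure (by simp)⟩
    | zero => exact ⟨∅, by simp, zero_mem _⟩
    | add x y _ _ hx hy =>
      obtain ⟨t, ht, h⟩ := hx
      obtain ⟨t', ht', h'⟩ := hy
      refine ⟨t ∪ t', by simp [ht, ht'], add_mem ?_ ?_⟩
      · exact AddSubgroup.closure_mono (by simp) h
      · exact AddSubgroup.closure_mono (by simp) h'
    | neg x _ hx =>
      obtain ⟨t, ht, h⟩ := hx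
      exact ⟨t, ht, neg_mem h⟩
  have h2 : ∀ x ∈ sp i j N, ∃ t : Finset Q, (t : Set Q) ⊆ s ∧ x ∈ sp i j (AddSubgroup.closure (t : Set Q)) := by
    intro x hx
    induction hx using AddSubgroup.closure_induction with
    | mem x hx =>
      obtain ⟨e, n, hn, rfl⟩ := hx
      obtain ⟨t, ht, h⟩ := h1 n (hs n hn)
      exact ⟨t, ht, mul_mem_sp e h⟩
    | zero => exact ⟨∅, by simp, zero_mem _⟩
    | add x y _ _ hx hy =>
      obtain ⟨t, ht, h⟩ := hx
      obtain ⟨t', ht', h'⟩ := hy
      refine ⟨t ∪ t', by simp [ht, ht'], add_mem ?_ ?_⟩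
      · exact sp_mono (AddSubgroup.closure_mono (by simp)) h
      · exact sp_mono (AddSubgroup.closure_mono (by simp)) h'
    | neg x _ hx =>
      obtain ⟨t, ht, h⟩ := hx
      exact ⟨t, ht, neg_mem h⟩
  exact h2 x hx

end Sp

section Push

variable {A E Q EQ : CommRingCat.{u}} {f : A ⟶ E} {q : A ⟶ Q} {iE : E ⟶ EQ} {iQ : Q ⟶ EQ}

/-- `N` is stable by `A`. -/
def IsSub (q : A ⟶ Q) (N : AddSubgroup Q) : Prop := ∀ (a : A), ∀ n ∈ N, q.hom a * n ∈ N

theorem isSub_sp {P : CommRingCat.{u}} (p : P ⟶ Q) (N : AddSubgroup P) : IsSub q (sp q.hom p.hom N) :=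
  fun a _ hn => smul_mem a hn

/-- the submodule attached to a stable subgroup -/
def subm (q : A ⟶ Q) {N : AddSubgroup Q} (hN : IsSub q N) : letI := q.hom.toAlgebra; Submodule A Q :=
  letI := q.hom.toAlgebra
  { N with smul_mem' := fun a n hn => hN a n hn }

/-- `sp` and the tensor product -/
theorem mem_sp_iff (h : IsPushout f q iE iQ) {N : AddSubgroup Q} (hN : IsSub q N) :
    letI := f.hom.toAlgebra; letI := q.hom.toAlgebra;
    ∀ (e : E ⊗[A] Q ≃+* EQ) (_ : ∀ x y, e (x ⊗ₜ[A] y) = iE x * iQ y) (z : E ⊗[A] Q),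
      e z ∈ sp iE.hom iQ.hom N ↔ z ∈ LinearMap.range ((subm q hN).subtype.lTensor E) := by
  letI := f.hom.toAlgebra
  letI := q.hom.toAlgebra
  intro e he z
  constructor
  · intro hz
    have h1 : sp iE.hom iQ.hom N ≤ ((LinearMap.range ((subm q hN).subtype.lTensor E)).toAddSubgroup).map
        e.toRingHom.toAddMonoidHom := by
      refine sp_le fun x n hn => ?_
      refine ⟨x ⊗ₜ n, ?_, he _ _⟩
      exact ⟨x ⊗ₜ[A] (⟨n, hn⟩ : subm q hN), rfl⟩
    obtain ⟨z', hz', h2⟩ := h1 hz
    have h3 : z' = z := e.injective h2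
    rw [← h3]
    exact hz'
  · rintro ⟨w, rfl⟩
    induction w with
    | zero => simp only [map_zero]; exact zero_mem _
    | add s t hs ht => rw [map_add, map_add]; exact add_mem hs ht
    | tmul s t =>
      rw [LinearMap.lTensor_tmul, he]
      exact mul_mem_sp _ t.2

/-- Descent along a faithfully flat homomorphism. -/
theorem mem_of_faithfullyFlat (h : IsPushout f q iE iQ) (hf : f.hom.FaithfullyFlat) {N : AddSubgroup Q}
    (hN : IsSub q N) {x : Q} (hx : iQ.hom x ∈ sp iE.hom iQ.hom N) : x ∈ N := by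
  letI := f.hom.toAlgebra
  letI := q.hom.toAlgebra
  haveI : Module.FaithfullyFlat A E := hf
  obtain ⟨e, he⟩ := K600.FlatMem.exists_equiv h
  have h1 : e ((1 : E) ⊗ₜ[A] x) = iQ.hom x := by
    rw [he, map_one, one_mul]
  rw [← h1, mem_sp_iff h hN e he] at hx
  obtain ⟨w, hw⟩ := hx
  have h2 : (subm q hN).mkQ.lTensor E ((1 : E) ⊗ₜ[A] x) = 0 := by
    rw [← hw, ← LinearMap.comp_apply, ← LinearMap.lTensor_comp]
    have : (subm q hN).mkQ ∘ₗ (subm q hN).subtype = 0 := by
      ext y
      simp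
    rw [this]
    simp
  rw [LinearMap.lTensor_tmul] at h2
  have h3 : Function.Injective (fun y : Q ⧸ subm q hN => (1 : E) ⊗ₜ[A] y) :=
    Module.FaithfullyFlat.tensorProduct_mk_injective (A := A) (B := E) (Q ⧸ subm q hN)
  have h4 : (subm q hN).mkQ x = 0 := h3 (by
    change (1 : E) ⊗ₜ[A] _ = (1 : E) ⊗ₜ[A] _
    rw [h2, tmul_zero])
  rw [Submodule.mkQ_apply, Submodule.Quotient.mk_eq_zero] at h4
  exact h4

theorem IsSub.comap {P : CommRingCat.{u}} {p : A ⟶ P} {a : Q ⟶ P} (ha : q ≫ a = p) {N : AddSubgroup P}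
    (hN : IsSub p N) : IsSub q (N.comap a.hom.toAddMonoidHom) := by
  intro x n hn
  change a.hom (q.hom x * n) ∈ N
  rw [map_mul, show a.hom (q.hom x) = p.hom x from congr($ha x)]
  exact hN _ _ hn

/-- Flat base change of the preimage of a submodule. -/
theorem mem_comap {P EP : CommRingCat.{u}} {p : A ⟶ P} {a : Q ⟶ P} {iE' : E ⟶ EP} {iP : P ⟶ EP} {aE : EQ ⟶ EP}
    (ha : q ≫ a = p) (hf : f.hom.Flat) (hQ : IsPushout f q iE iQ) (hP : IsPushout f p iE' iP)
    (a1 : iE ≫ aE = iE') (a2 : iQ ≫ aE = a ≫ iP) {N : AddSubgroup P} (hN : IsSub p N) {z : EQ}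
    (hz : aE.hom z ∈ sp iE'.hom iP.hom N) : z ∈ sp iE.hom iQ.hom (N.comap a.hom.toAddMonoidHom) := by
  letI := f.hom.toAlgebra
  letI := q.hom.toAlgebra
  letI := p.hom.toAlgebra
  haveI : Module.Flat A E := hf
  obtain ⟨eQ, heQ⟩ := K600.FlatMem.exists_equiv hQ
  obtain ⟨eP, heP⟩ := K600.FlatMem.exists_equiv hP
  let aL : Q →ₐ[A] P := { a.hom with commutes' := fun r => congr($ha r) }
  have tw : ∀ t : E ⊗[A] Q, aE.hom (eQ t) = eP (aL.toLinearMap.lTensor E t) := by
    intro t
    induction t with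
    | zero => simp
    | add s t hs ht => rw [map_add, map_add, map_add, map_add, hs, ht]
    | tmul s t =>
      rw [heQ, map_mul, LinearMap.lTensor_tmul, heP]
      have e1 := congr($a1 s)
      have e2 := congr($a2 t)
      exact congr($e1 * $e2)
  obtain ⟨z, rfl⟩ := eQ.surjective z
  rw [tw, mem_sp_iff hP hN eP heP] at hz
  rw [mem_sp_iff hQ (IsSub.comap ha hN) eQ heQ]
  obtain ⟨y, hy⟩ := hz
  refine K600.FlatMem.lTensor_mem (E := E) aL.toLinearMap (subm p hN).subtype
    (subm q (IsSub.comap ha hN)).subtype ?_ z y hy.symm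
  rintro x ⟨y, hy⟩
  refine ⟨⟨x, ?_⟩, rfl⟩
  change a.hom x ∈ N
  have : a.hom x = (y : P) := hy.symm
  rw [this]
  exact y.2

/-- Integral elements of a smooth base change. -/
theorem exists_integral (h : IsPushout f q iE iQ) (hf : f.hom.Smooth) {x : EQ} (hx : iE.hom.IsIntegralElem x) :
    ∃ t : Finset Q, (∀ y ∈ t, q.hom.IsIntegralElem y) ∧ x ∈ sp iE.hom iQ.hom (AddSubgroup.closure (t : Set Q)) := by
  letI := f.hom.toAlgebra
  letI := q.hom.toAlgebra
  haveI : Algebra.Smooth A E := hf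
  obtain ⟨e, he⟩ := K600.FlatMem.exists_equiv h
  obtain ⟨z, rfl⟩ := e.surjective x
  have h1 : IsIntegral E z := by
    obtain ⟨p, hp, h0⟩ := hx
    refine ⟨p, hp, e.injective ?_⟩
    rw [map_zero]
    have h5 := Polynomial.hom_eval₂ p (algebraMap E (E ⊗[A] Q)) (e : E ⊗[A] Q →+* EQ) z
    refine h5.trans (Eq.trans ?_ h0)
    congr 1
    ext x
    change e (x ⊗ₜ[A] 1) = _
    rw [he, map_one, mul_one]
  obtain ⟨w, hw⟩ := (TensorProduct.toIntegralClosure_bijective_of_smooth (R := A) (S := E) (B := Q)).2 ⟨z, h1⟩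
  have h2 : ∀ w : E ⊗[A] integralClosure A Q, e (TensorProduct.toIntegralClosure A E Q w).1 ∈
      sp iE.hom iQ.hom ((integralClosure A Q).toSubmodule.toAddSubgroup) := by
    intro w
    induction w with
    | zero => rw [map_zero]; exact (map_zero e).symm ▸ zero_mem _
    | add s t hs ht =>
      rw [map_add]
      exact (map_add e _ _).symm ▸ add_mem hs ht
    | tmul s t =>
      have : e (TensorProduct.toIntegralClosure A E Q (s ⊗ₜ[A] t)).1 = iE s * iQ t.1 := he _ _
      rw [this]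
      exact mul_mem_sp _ t.2
  have h3 := h2 w
  rw [hw] at h3
  obtain ⟨t, ht, h4⟩ := exists_finset (s := (integralClosure A Q : Set Q)) (fun n hn => AddSubgroup.subset_closure hn) h3
  exact ⟨t, fun y hy => ht hy, h4⟩

end Push

end K736.Alg
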