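import Groth.Agent.AlgSt.K736.Zmt.TopY

/-!
# The sheaf of natural families of a cartesian diagram over a locally cofiltered system of charts (helper736)
-/

set_option autoImplicit false

universe w v₃ u₃ v₂ u₂ v u

open CategoryTheory CategoryTheory.Limits Opposite K735.Fib K736.TopY

namespace K736.Fam

variable {C : Type u} [Category.{v} C] {𝒳 : Type u₂} [Category.{v₂} 𝒳] {p : 𝒳 ⥤ C}
  {D : Type u₃} [Category.{v₃} D]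

/-- `ι : D ⥤ 𝒳` is locally cofiltered over the objects of `𝒳`. -/
structure LocCof (ι : D ⥤ 𝒳) (K : GrothendieckTopology 𝒳) : Prop where
  lc1 : ∀ ⦃z : 𝒳⦄ ⦃c₁ c₂ : D⦄ (m₁ : z ⟶ ι.obj c₁) (m₂ : z ⟶ ι.obj c₂), ∃ R ∈ K z, ∀ ⦃z' : 𝒳⦄ (φ : z' ⟶ z), R φ →
    ∃ (r : D) (k : z' ⟶ ι.obj r) (s : r ⟶ c₁) (t : r ⟶ c₂), k ≫ ι.map s = φ ≫ m₁ ∧ k ≫ ι.map t = φ ≫ m₂
  lc2 : ∀ ⦃z : 𝒳⦄ ⦃c c' : D⦄ (m : z ⟶ ι.obj c) (g g' : c ⟶ c'), m ≫ ι.map g = m ≫ ι.map g' →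
    ∃ R ∈ K z, ∀ ⦃z' : 𝒳⦄ (φ : z' ⟶ z), R φ →
      ∃ (d : D) (k : z' ⟶ ι.obj d) (n : d ⟶ c), k ≫ ι.map n = φ ≫ m ∧ n ≫ g = n ≫ g'

/-- A cartesian diagram over `D`. -/
structure CartDiag (ι : D ⥤ 𝒳) (p : 𝒳 ⥤ C) where
  E : D ⥤ C
  ε : E ⟶ ι ⋙ p
  cart : ∀ ⦃c c' : D⦄ (g : c ⟶ c'), IsPullback (E.map g) (ε.app c) (ε.app c') (p.map (ι.map g))

variable {ι : D ⥤ 𝒳} (𝔼 : CartDiag ι p)

/-- Natural families of local sections. -/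
@[ext] structure Fm (y : 𝒳) where
  σ : ∀ ⦃z : 𝒳⦄ (_ : z ⟶ y) ⦃c : D⦄ (_ : z ⟶ ι.obj c), p.obj z ⟶ 𝔼.E.obj c
  fac : ∀ ⦃z : 𝒳⦄ (a : z ⟶ y) ⦃c : D⦄ (m : z ⟶ ι.obj c), σ a m ≫ 𝔼.ε.app c = p.map m
  natz : ∀ ⦃z z' : 𝒳⦄ (b : z' ⟶ z) (a : z ⟶ y) ⦃c : D⦄ (m : z ⟶ ι.obj c), p.map b ≫ σ a m = σ (b ≫ a) (b ≫ m)
  natc : ∀ ⦃z : 𝒳⦄ (a : z ⟶ y) ⦃c c' : D⦄ (g : c ⟶ c') (m : z ⟶ ι.obj c), σ a (m ≫ ι.map g) = σ a m ≫ 𝔼.E.map g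

variable {𝔼}

/-- Restriction of families. -/
@[simps] def Fm.res {y y' : 𝒳} (b : y' ⟶ y) (s : Fm 𝔼 y) : Fm 𝔼 y' where
  σ z a c m := s.σ (a ≫ b) m
  fac z a c m := s.fac _ _
  natz z z' b' a c m := by rw [s.natz, Category.assoc]
  natc z a c c' g m := s.natc _ _ _

variable (𝔼)

/-- The presheaf of natural families. -/
@[simps] def fm : 𝒳ᵒᵖ ⥤ Type (max u₂ v₂ u₃ v) where
  obj y := Fm 𝔼 y.unop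
  map b := ↾fun s => s.res b.unop
  map_id y := by
    refine ConcreteCategory.hom_ext _ _ fun s => ?_
    apply Fm.ext
    funext z a c m
    change s.σ (a ≫ 𝟙 _) m = s.σ a m
    rw [Category.comp_id]
  map_comp f g := by
    refine ConcreteCategory.hom_ext _ _ fun s => ?_
    apply Fm.ext
    funext z a c m
    change s.σ (a ≫ g.unop ≫ f.unop) m = s.σ ((a ≫ g.unop) ≫ f.unop) m
    rw [Category.assoc]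

variable {𝔼}
variable (h : FibCat.IsFibGrpd p) {J : GrothendieckTopology C} (hJ : ∀ W : C, Presieve.IsSheaf J (yoneda.obj W))
  (hι : LocCof ι (topY h J))

/-- A lift to `E r`. -/
theorem exists_lift_E {z : 𝒳} {r c : D} (k : z ⟶ ι.obj r) (g : r ⟶ c) (s : p.obj z ⟶ 𝔼.E.obj c)
    (hs : s ≫ 𝔼.ε.app c = p.map (k ≫ ι.map g)) :
    ∃ τ : p.obj z ⟶ 𝔼.E.obj r, τ ≫ 𝔼.ε.app r = p.map k ∧ τ ≫ 𝔼.E.map g = s := by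
  refine ⟨(𝔼.cart g).lift s (p.map k) ?_, (𝔼.cart g).lift_snd _ _ _, (𝔼.cart g).lift_fst _ _ _⟩
  rw [hs, p.map_comp]

theorem hom_ext_E {T : C} {r c : D} (g : r ⟶ c) {τ τ' : T ⟶ 𝔼.E.obj r} (h₁ : τ ≫ 𝔼.ε.app r = τ' ≫ 𝔼.ε.app r)
    (h₂ : τ ≫ 𝔼.E.map g = τ' ≫ 𝔼.E.map g) : τ = τ' := (𝔼.cart g).hom_ext h₂ h₁

include hJ hι in
theorem ev_inj {y : 𝒳} {c₀ : D} (m₀ : y ⟶ ι.obj c₀) (s s' : Fm 𝔼 y) (hs : s.σ (𝟙 y) m₀ = s'.σ (𝟙 y) m₀) : s = s' := by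
  apply Fm.ext
  funext z a c m
  obtain ⟨R, hR, H⟩ := hι.lc1 (a ≫ m₀) m
  refine hom_ext_of_mem h hJ hR fun z' φ hφ => ?_
  obtain ⟨r, k, g₁, g₂, h₁, h₂⟩ := H φ hφ
  have key : ∀ t : Fm 𝔼 y, p.map φ ≫ t.σ a m = t.σ (φ ≫ a) k ≫ 𝔼.E.map g₂ := fun t => by
    rw [t.natz, ← h₂, t.natc]
  have key₂ : ∀ t : Fm 𝔼 y, t.σ (φ ≫ a) k ≫ 𝔼.E.map g₁ = p.map (φ ≫ a) ≫ t.σ (𝟙 y) m₀ := fun t => by
    rw [t.natz, ← t.natc (φ ≫ a) g₁ k, h₁, Category.comp_id, Category.assoc]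
  have key₃ : s.σ (φ ≫ a) k = s'.σ (φ ≫ a) k := hom_ext_E g₁ (by rw [s.fac, s'.fac]) (by rw [key₂, key₂, hs])
  rw [key, key, key₃]

section Surj

variable {y : 𝒳} {c₀ : D} (m₀ : y ⟶ ι.obj c₀) (s₀ : p.obj y ⟶ 𝔼.E.obj c₀) (hs₀ : s₀ ≫ 𝔼.ε.app c₀ = p.map m₀)

/-- `x : p z ⟶ E c` is computed from `s₀` by a common refinement. -/
def Rel {z : 𝒳} (a : z ⟶ y) {c : D} (m : z ⟶ ι.obj c) (x : p.obj z ⟶ 𝔼.E.obj c) : Prop :=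
  ∃ (r : D) (k : z ⟶ ι.obj r) (g₁ : r ⟶ c₀) (g₂ : r ⟶ c) (τ : p.obj z ⟶ 𝔼.E.obj r),
    k ≫ ι.map g₁ = a ≫ m₀ ∧ k ≫ ι.map g₂ = m ∧ τ ≫ 𝔼.ε.app r = p.map k ∧ τ ≫ 𝔼.E.map g₁ = p.map a ≫ s₀ ∧
      τ ≫ 𝔼.E.map g₂ = x

variable {m₀ s₀}

theorem Rel.res {z : 𝒳} {a : z ⟶ y} {c : D} {m : z ⟶ ι.obj c} {x : p.obj z ⟶ 𝔼.E.obj c} (H : Rel m₀ s₀ a m x)
    {z' : 𝒳} (φ : z' ⟶ z) : Rel m₀ s₀ (φ ≫ a) (φ ≫ m) (p.map φ ≫ x) := by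
  obtain ⟨r, k, g₁, g₂, τ, h₁, h₂, h₃, h₄, h₅⟩ := H
  exact ⟨r, φ ≫ k, g₁, g₂, p.map φ ≫ τ, by simp [h₁], by simp [h₂], by simp [h₃], by simp [h₄], by simp [h₅]⟩

include hs₀ hι in
theorem Rel.exists_local {z : 𝒳} (a : z ⟶ y) {c : D} (m : z ⟶ ι.obj c) :
    ∃ R ∈ topY h J z, ∀ ⦃z' : 𝒳⦄ (φ : z' ⟶ z), R φ → ∃ x, Rel m₀ s₀ (φ ≫ a) (φ ≫ m) x := by
  obtain ⟨R, hR, H⟩ := hι.lc1 (a ≫ m₀) m
  refine ⟨R, hR, fun z' φ hφ => ?_⟩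
  obtain ⟨r, k, g₁, g₂, h₁, h₂⟩ := H φ hφ
  obtain ⟨τ, hτ, hτ'⟩ := exists_lift_E k g₁ (p.map (φ ≫ a) ≫ s₀) (by
    rw [Category.assoc, hs₀, h₁, ← p.map_comp, Category.assoc])
  exact ⟨_, r, k, g₁, g₂, τ, by rw [h₁, Category.assoc], h₂, hτ, hτ', rfl⟩

include hJ hι in
theorem Rel.unique {z : 𝒳} {a : z ⟶ y} {c : D} {m : z ⟶ ι.obj c} {x x' : p.obj z ⟶ 𝔼.E.obj c}
    (H : Rel m₀ s₀ a m x) (H' : Rel m₀ s₀ a m x') : x = x' := by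
  obtain ⟨r, k, g₁, g₂, τ, h₁, h₂, h₃, h₄, h₅⟩ := H
  obtain ⟨r', k', g₁', g₂', τ', h₁', h₂', h₃', h₄', h₅'⟩ := H'
  obtain ⟨R, hR, H1⟩ := hι.lc1 k k'
  refine hom_ext_of_mem h hJ hR fun z₁ φ₁ hφ₁ => ?_
  obtain ⟨r₁, k₁, n, n', e₁, e₁'⟩ := H1 φ₁ hφ₁
  -- equalize the maps to `c₀`
  obtain ⟨R₂, hR₂, H2⟩ := hι.lc2 k₁ (n ≫ g₁) (n' ≫ g₁') (by
    simp only [Functor.map_comp]
    rw [reassoc_of% e₁, reassoc_of% e₁', h₁, h₁'])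
  refine hom_ext_of_mem h hJ hR₂ fun z₂ φ₂ hφ₂ => ?_
  obtain ⟨r₂, k₂, l, e₂, f₂⟩ := H2 φ₂ hφ₂
  obtain ⟨R₃, hR₃, H3⟩ := hι.lc2 k₂ (l ≫ n ≫ g₂) (l ≫ n' ≫ g₂') (by
    simp only [Functor.map_comp]
    rw [reassoc_of% e₂, reassoc_of% e₁, h₂, reassoc_of% e₂, reassoc_of% e₁', h₂'])
  refine hom_ext_of_mem h hJ hR₃ fun z₃ φ₃ hφ₃ => ?_
  obtain ⟨r₃, k₃, l', e₃, f₃⟩ := H3 φ₃ hφ₃
  -- the common refinement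
  obtain ⟨τ₃, t₁, t₂⟩ := exists_lift_E (𝔼 := 𝔼) k₃ (l' ≫ l ≫ n) (p.map (φ₃ ≫ φ₂ ≫ φ₁) ≫ τ) (by
    simp only [Functor.map_comp, Category.assoc]
    rw [h₃, ← p.map_comp, ← p.map_comp, ← p.map_comp, ← p.map_comp, ← p.map_comp, ← p.map_comp, reassoc_of% e₃, reassoc_of% e₂, e₁])
  obtain ⟨τ₃', t₁', t₂'⟩ := exists_lift_E (𝔼 := 𝔼) k₃ (l' ≫ l ≫ n') (p.map (φ₃ ≫ φ₂ ≫ φ₁) ≫ τ') (by
    simp only [Functor.map_comp, Category.assoc]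
    rw [h₃', ← p.map_comp, ← p.map_comp, ← p.map_comp, ← p.map_comp, ← p.map_comp, ← p.map_comp, reassoc_of% e₃, reassoc_of% e₂, e₁'])
  have h6 : τ₃ = τ₃' := by
    refine hom_ext_E (l' ≫ l ≫ n ≫ g₁) (t₁.trans t₁'.symm) ?_
    have a1 : τ₃ ≫ 𝔼.E.map (l' ≫ l ≫ n ≫ g₁) = p.map (φ₃ ≫ φ₂ ≫ φ₁) ≫ p.map a ≫ s₀ := by
      rw [← h₄, ← Category.assoc _ τ, ← t₂, Category.assoc, ← 𝔼.E.map_comp]
      simp only [Category.assoc]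
    have a2 : τ₃' ≫ 𝔼.E.map (l' ≫ l ≫ n' ≫ g₁') = p.map (φ₃ ≫ φ₂ ≫ φ₁) ≫ p.map a ≫ s₀ := by
      rw [← h₄', ← Category.assoc _ τ', ← t₂', Category.assoc, ← 𝔼.E.map_comp]
      simp only [Category.assoc]
    rw [a1, f₂, a2]
  have b1 : p.map (φ₃ ≫ φ₂ ≫ φ₁) ≫ x = τ₃ ≫ 𝔼.E.map (l' ≫ l ≫ n ≫ g₂) := by
    rw [← h₅, ← Category.assoc _ τ, ← t₂, Category.assoc, ← 𝔼.E.map_comp]
    simp only [Category.assoc]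
  have b2 : p.map (φ₃ ≫ φ₂ ≫ φ₁) ≫ x' = τ₃' ≫ 𝔼.E.map (l' ≫ l ≫ n' ≫ g₂') := by
    rw [← h₅', ← Category.assoc _ τ', ← t₂', Category.assoc, ← 𝔼.E.map_comp]
    simp only [Category.assoc]
  have b3 : p.map (φ₃ ≫ φ₂ ≫ φ₁) ≫ x = p.map (φ₃ ≫ φ₂ ≫ φ₁) ≫ x' := by
    rw [b1, b2, h6, f₃]
  simpa only [Functor.map_comp, Category.assoc] using b3

/-- The value of the family attached to `s₀`. -/
def Good {z : 𝒳} (J : GrothendieckTopology C) (h : FibCat.IsFibGrpd p) (m₀ : y ⟶ ι.obj c₀) (s₀ : p.obj y ⟶ 𝔼.E.obj c₀)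
    (a : z ⟶ y) {c : D} (m : z ⟶ ι.obj c) (x : p.obj z ⟶ 𝔼.E.obj c) : Prop :=
  ∃ R ∈ topY h J z, ∀ ⦃z' : 𝒳⦄ (φ : z' ⟶ z), R φ → Rel m₀ s₀ (φ ≫ a) (φ ≫ m) (p.map φ ≫ x)

include hJ hι in
theorem Good.unique {z : 𝒳} {a : z ⟶ y} {c : D} {m : z ⟶ ι.obj c} {x x' : p.obj z ⟶ 𝔼.E.obj c}
    (H : Good J h m₀ s₀ a m x) (H' : Good J h m₀ s₀ a m x') : x = x' := by
  obtain ⟨R, hR, H⟩ := H
  obtain ⟨R', hR', H'⟩ := H'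
  refine hom_ext_of_mem h hJ ((topY h J).intersection_covering hR hR') fun z' φ hφ => ?_
  exact (H φ hφ.1).unique h hJ hι (H' φ hφ.2)

include hs₀ hJ hι in
theorem Good.exists {z : 𝒳} (a : z ⟶ y) {c : D} (m : z ⟶ ι.obj c) : ∃ x, Good J h m₀ s₀ a m x := by
  obtain ⟨R, hR, H⟩ := Rel.exists_local h hι hs₀ a m
  choose x hx using H
  obtain ⟨x₀, hx₀⟩ := hom_glue h hJ hR x fun z' z'' φ hφ ψ => by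
    refine Rel.unique h hJ hι (m₀ := m₀) (s₀ := s₀) (a := (ψ ≫ φ) ≫ a) (m := (ψ ≫ φ) ≫ m) ?_ (hx _ _)
    have := (hx φ hφ).res ψ
    simpa only [Category.assoc] using this
  exact ⟨x₀, R, hR, fun z' φ hφ => by rw [hx₀ φ hφ]; exact hx φ hφ⟩

theorem Good.res {z : 𝒳} {a : z ⟶ y} {c : D} {m : z ⟶ ι.obj c} {x : p.obj z ⟶ 𝔼.E.obj c}
    (H : Good J h m₀ s₀ a m x) {z' : 𝒳} (φ : z' ⟶ z) : Good J h m₀ s₀ (φ ≫ a) (φ ≫ m) (p.map φ ≫ x) := by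
  obtain ⟨R, hR, H⟩ := H
  refine ⟨R.pullback φ, (topY h J).pullback_stable φ hR, fun z'' ψ hψ => ?_⟩
  simpa only [Functor.map_comp, Category.assoc] using H (ψ ≫ φ) hψ

theorem Good.comp {z : 𝒳} {a : z ⟶ y} {c : D} {m : z ⟶ ι.obj c} {x : p.obj z ⟶ 𝔼.E.obj c}
    (H : Good J h m₀ s₀ a m x) {c' : D} (g : c ⟶ c') : Good J h m₀ s₀ a (m ≫ ι.map g) (x ≫ 𝔼.E.map g) := by
  obtain ⟨R, hR, H⟩ := H
  refine ⟨R, hR, fun z' φ hφ => ?_⟩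
  obtain ⟨r, k, g₁, g₂, τ, h₁, h₂, h₃, h₄, h₅⟩ := H φ hφ
  exact ⟨r, k, g₁, g₂ ≫ g, τ, h₁, by rw [Functor.map_comp, reassoc_of% h₂], h₃, h₄, by
    rw [Functor.map_comp, reassoc_of% h₅]⟩

include hJ in
theorem Good.fac {z : 𝒳} {a : z ⟶ y} {c : D} {m : z ⟶ ι.obj c} {x : p.obj z ⟶ 𝔼.E.obj c}
    (H : Good J h m₀ s₀ a m x) : x ≫ 𝔼.ε.app c = p.map m := by
  obtain ⟨R, hR, H⟩ := H
  refine hom_ext_of_mem h hJ hR fun z' φ hφ => ?_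
  obtain ⟨r, k, g₁, g₂, τ, h₁, h₂, h₃, h₄, h₅⟩ := H φ hφ
  have := 𝔼.ε.naturality g₂
  dsimp at this
  rw [← Category.assoc, ← h₅, Category.assoc, this, reassoc_of% h₃, ← p.map_comp, h₂, p.map_comp]

include hs₀ in
theorem Good.self : Good J h m₀ s₀ (𝟙 y) m₀ s₀ := by
  refine ⟨⊤, (topY h J).top_mem _, fun z' φ _ => ?_⟩
  exact ⟨c₀, φ ≫ m₀, 𝟙 _, 𝟙 _, p.map φ ≫ s₀, by simp, by simp, by simp [hs₀], by simp, by simp⟩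

include hs₀ hJ hι in
theorem ev_surj : ∃ s : Fm 𝔼 y, s.σ (𝟙 y) m₀ = s₀ := by
  choose σ hσ using fun (z : 𝒳) (a : z ⟶ y) (c : D) (m : z ⟶ ι.obj c) => Good.exists h hJ hι hs₀ a m
  refine ⟨⟨fun z a c m => σ z a c m, fun z a c m => (hσ z a c m).fac h hJ, fun z z' b a c m => ?_, fun z a c c' g m => ?_⟩, ?_⟩
  · exact ((hσ z a c m).res h b).unique h hJ hι (hσ _ _ _ _)
  · exact (hσ _ _ _ _).unique h hJ hι ((hσ z a c m).comp h g)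
  · exact (hσ _ _ _ _).unique h hJ hι (Good.self h hs₀)

end Surj

include hJ hι in
/-- Over an object with a map to a chart the sheaf of families is represented by the base change of `E`. -/
theorem exists_univ {y yW : 𝒳} {c₀ : D} (m₀ : y ⟶ ι.obj c₀) (w : yW ⟶ y) (q : p.obj yW ⟶ 𝔼.E.obj c₀)
    (hq : IsPullback q (p.map w) (𝔼.ε.app c₀) (p.map m₀)) :
    ∃ ζ : Fm 𝔼 yW, ζ.σ (𝟙 _) (w ≫ m₀) = q ∧ ∀ ⦃z' : 𝒳⦄ (φ : z' ⟶ y) (s : Fm 𝔼 z'),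
      ∃! k : z' ⟶ yW, k ≫ w = φ ∧ ζ.res k = s := by
  obtain ⟨ζ, hζ⟩ := ev_surj (𝔼 := 𝔼) (m₀ := w ≫ m₀) (s₀ := q) h hJ hι (by rw [p.map_comp, hq.w])
  have key : ∀ ⦃z' : 𝒳⦄ (φ : z' ⟶ y) (k : z' ⟶ yW) (_ : k ≫ w = φ), (ζ.res k).σ (𝟙 _) (φ ≫ m₀) = p.map k ≫ q := by
    rintro z' φ k rfl
    rw [← hζ, ζ.natz, Fm.res_σ, Category.id_comp, Category.comp_id, Category.assoc]
  refine ⟨ζ, hζ, fun z' φ s => ?_⟩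
  obtain ⟨k, hk, hkw⟩ := exists_hom h w φ (hq.lift (s.σ (𝟙 _) (φ ≫ m₀)) (p.map φ) (by rw [s.fac, p.map_comp]))
    (hq.lift_snd _ _ _)
  refine ⟨k, ⟨hkw, ?_⟩, ?_⟩
  · refine ev_inj h hJ hι (φ ≫ m₀) _ _ ?_
    rw [key φ k hkw, hk, hq.lift_fst]
  · rintro k' ⟨hk', hs⟩
    refine hom_ext' h w ?_ (hk'.trans hkw.symm)
    refine hq.hom_ext ?_ ?_
    · rw [← key φ k' hk', hs, hk, hq.lift_fst]
    · rw [← p.map_comp, ← p.map_comp, hk', hkw]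

include hJ in
theorem isSheaf_fm_aux {y : 𝒳} {R : Sieve y} (hR : R ∈ topY h J y) (x : ∀ ⦃z : 𝒳⦄ (φ : z ⟶ y), R φ → Fm 𝔼 z)
    (hres : ∀ ⦃z z' : 𝒳⦄ (φ : z ⟶ y) (hφ : R φ) (ψ : z' ⟶ z), (x φ hφ).res ψ = x (ψ ≫ φ) (R.downward_closed hφ ψ)) :
    ∃! t : Fm 𝔼 y, ∀ ⦃z : 𝒳⦄ (φ : z ⟶ y) (hφ : R φ), t.res φ = x φ hφ := by
  have hcongr : ∀ ⦃z z' : 𝒳⦄ (φ φ' : z ⟶ y) (_ : φ = φ') (hφ : R φ) (hφ' : R φ') (c : D) (m : z ⟶ ι.obj c)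
      (m' : z ⟶ ι.obj c) (_ : m = m'), (x φ hφ).σ (𝟙 _) m = (x φ' hφ').σ (𝟙 _) m' := by
    rintro z z' φ _ rfl _ _ c m _ rfl
    rfl
  have hσ : ∀ ⦃z z' : 𝒳⦄ (φ : z ⟶ y) (hφ : R φ) (ψ : z' ⟶ z) (c : D) (m : z' ⟶ ι.obj c),
      (x φ hφ).σ ψ m = (x (ψ ≫ φ) (R.downward_closed hφ ψ)).σ (𝟙 _) m := by
    intro z z' φ hφ ψ c m
    rw [← hres, Fm.res_σ, Category.id_comp]
  -- the values
  have hgl : ∀ (z : 𝒳) (a : z ⟶ y) (c : D) (m : z ⟶ ι.obj c), ∃ v : p.obj z ⟶ 𝔼.E.obj c,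
      ∀ ⦃z' : 𝒳⦄ (φ : z' ⟶ z) (hφ : R (φ ≫ a)), p.map φ ≫ v = (x (φ ≫ a) hφ).σ (𝟙 _) (φ ≫ m) := by
    intro z a c m
    refine hom_glue h hJ ((topY h J).pullback_stable a hR)
      (fun z' φ hφ => (x (φ ≫ a) hφ).σ (𝟙 _) (φ ≫ m)) fun z' z'' φ hφ ψ => ?_
    rw [Fm.natz, Category.comp_id, hσ]
    exact hcongr (z' := z'') _ _ (Category.assoc _ _ _).symm _ _ _ _ _ (Category.assoc _ _ _).symm
  choose v hv using hgl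
  have huniq : ∀ {z : 𝒳} (a : z ⟶ y) {W : C} {t t' : p.obj z ⟶ W} (_ : ∀ ⦃z' : 𝒳⦄ (φ : z' ⟶ z) (_ : R (φ ≫ a)),
      p.map φ ≫ t = p.map φ ≫ t'), t = t' := fun {z} a {W t t'} H =>
    hom_ext_of_mem h hJ ((topY h J).pullback_stable a hR) fun z' φ hφ => H φ hφ
  refine ⟨⟨fun z a c m => v z a c m, ?_, ?_, ?_⟩, ?_, ?_⟩
  · intro z a c m
    refine huniq a fun z' φ hφ => ?_
    rw [← Category.assoc, hv z a c m φ hφ, Fm.fac, p.map_comp]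
  · intro z z' b a c m
    refine huniq (b ≫ a) fun z'' φ hφ => ?_
    have hφ' : R ((φ ≫ b) ≫ a) := by rw [Category.assoc]; exact hφ
    have h1 := hv z a c m (φ ≫ b) hφ'
    rw [p.map_comp, Category.assoc] at h1
    rw [h1, hv z' (b ≫ a) c (b ≫ m) φ hφ]
    exact hcongr (z' := z'') _ _ (Category.assoc _ _ _) _ _ _ _ _ (Category.assoc _ _ _)
  · intro z a c c' g m
    refine huniq a fun z' φ hφ => ?_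
    rw [hv z a c' (m ≫ ι.map g) φ hφ, ← Category.assoc, Fm.natc, ← hv z a c m φ hφ, Category.assoc]
  · intro z φ hφ
    apply Fm.ext
    funext z' a c m
    change v z' (a ≫ φ) c m = (x φ hφ).σ a m
    refine huniq (a ≫ φ) fun z'' ψ hψ => ?_
    rw [hv z' (a ≫ φ) c m ψ hψ, Fm.natz, hσ φ hφ (ψ ≫ a)]
    exact hcongr (z' := z'') _ _ (Category.assoc _ _ _).symm _ _ _ _ _ rfl
  · intro t ht
    apply Fm.ext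
    funext z a c m
    change t.σ a m = v z a c m
    refine huniq a fun z' φ hφ => ?_
    rw [hv z a c m φ hφ, ← ht (φ ≫ a) hφ, Fm.res_σ, Category.id_comp, Fm.natz]

include hJ in
theorem isSheaf_fm : Presieve.IsSheaf (topY h J) (fm 𝔼) := by
  intro y R hR x hx
  have hx' := (Presieve.compatible_iff_sieveCompatible x).1 hx
  exact isSheaf_fm_aux h hJ hR (fun z φ hφ => x φ hφ) fun z z' φ hφ ψ => (hx' φ ψ hφ).symm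

end K736.Fam
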