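import Groth.Agent.AlgSt.K736.Zmt.Span2
import Groth.Agent.AlgSt.K736.Zmt.Fam
import Groth.Agent.AlgSt.K739.ChartDiag
import Groth.Agent.AlgSt.K739.StabEt
import Groth.Agent.AlgSt.K743.Comp
import Groth.Agent.AlgSp.K635.EtTop
import Groth.Agent.AlgSt.K734.Props
import Groth.Agent.AlgSp.K635.Glue
import Groth.Agent.AlgSp.K610.Base

/-!
# Etale charts of a stack as objects of its total category (helper736)
-/

set_option autoImplicit false
set_option backward.isDefEq.respectTransparency false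
set_option backward.isDefEq.respectTransparency.types false

universe w v₃ u₃ v₂ u₂ v u

open CategoryTheory CategoryTheory.Limits AlgebraicGeometry Opposite K735.Fib K735.Fp AlgSp K736.Span

namespace K736.Charts

variable {S : Scheme.{u}}

theorem isSheaf_yoneda (S : Scheme.{u}) (W : Over S) : Presieve.IsSheaf (AlgSp.J S) (yoneda.obj W) := fun V R hR =>
  K747.Top.isSheafFor_yoneda Scheme.fppfPrecoverage W V R hR

section Cov

variable {𝒴 : BasedCategory.{v₃, u₃} (Over S)} (h𝒴 : FibCat.IsFibGrpd 𝒴.p)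

/-- A sieve is covering if it contains an etale neighbourhood of every point. -/
theorem mem_topY_of_pts {z : 𝒴.obj} {R : Sieve z}
    (H : ∀ t : (𝒴.p.obj z).left, ∃ (V : Over S) (v : V ⟶ 𝒴.p.obj z), Etale v.left ∧ t ∈ Set.range v.left ∧
      ∀ ⦃z' : 𝒴.obj⦄ (φ : z' ⟶ z) (g : 𝒴.p.obj z' ⟶ V), g ≫ v = 𝒴.p.map φ → R φ) :
    R ∈ TopY.topY h𝒴 (AlgSp.J S) z := by
  choose V v hv ht h using H
  refine ⟨Sieve.generate (Presieve.ofArrows V v), ?_, ?_⟩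
  · refine K629.Fppf.mem_of_cover V v (fun t => ⟨V t, 𝟙 _, v t, ⟨t⟩, Category.id_comp _⟩) (fun t => ?_) fun t => ⟨t, ht t⟩
    have := hv t
    exact ⟨inferInstance, inferInstance⟩
  · rintro z' φ ⟨_, g, _, ⟨t⟩, hg⟩
    exact h t φ g hg

end Cov

section Ch

variable {𝒴 : AlgSt.Cat S} (h𝒴 : FibCat.IsFibGrpd 𝒴.p)

/-- The object `c` is an etale chart. -/
def EtCh (c : 𝒴.obj) : Prop := AlgSt.RepByAlgSpWith (LocP @Etale) (yonF h𝒴 c rfl)

theorem exists_iso_comp {c d : 𝒴.obj} (g : d ⟶ c) :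
    Nonempty (BasedFunctor.comp (AlgSt.overMap (𝒴.p.map g)) (yonF h𝒴 c rfl) ≅ yonF h𝒴 d rfl) := by
  obtain ⟨χ, h1, h2⟩ := exists_hom h𝒴 ((yonFIso h𝒴 d rfl).hom ≫ g)
    (toC h𝒴 c (Over.mk (𝟙 (𝒴.p.obj d) ≫ 𝒴.p.map g)))
    (eqToHom (((yonF h𝒴 c rfl).w_obj _).trans ((yonF h𝒴 d rfl).w_obj (idObj _)).symm)) (by
      rw [𝒴.p.map_comp, p_toC, (vert_yonFIso h𝒴 d rfl).map_eq]
      simp)
  obtain ⟨e, -⟩ := exists_yonIso h𝒴 (BasedFunctor.comp (AlgSt.overMap (𝒴.p.map g)) (yonF h𝒴 c rfl)) (yonF h𝒴 d rfl)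
    χ (vert_of_map_eq _ h1)
  exact ⟨e⟩

theorem EtCh.of_hom {c d : 𝒴.obj} (hc : EtCh h𝒴 c) (g : d ⟶ c) (hg : Etale (𝒴.p.map g).left) : EtCh h𝒴 d := by
  obtain ⟨e⟩ := exists_iso_comp h𝒴 g
  have h1 := K743.Comp.locP_overMap_comp K597.etLoc_etale (𝒴.p.map g) hg _ hc
  exact K735.Rep.repByAlgSpWith_of_iso _ e h1

theorem etale_of_overMap {U V : Over S} (h : U ⟶ V) (H : AlgSt.RepByAlgSpWith (AlgSp.LocP @Etale) (AlgSt.overMap h)) :
    Etale h.left := by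
  have hr := K735.Top.locP_respectsIso (S := S) @Etale
  have e1 : AlgSt.RepByAlgSpWith (AlgSp.LocP @Etale) (AlgSt.overMap h) ↔
      AlgSt.RepByAlgSpWith (AlgSp.LocP @Etale) (AlgSt.ofSpMap ((AlgSp.yon S).map h)) :=
    K735.Rep.repByAlgSpWith_iff_of_sq _ (AlgSt.overMap h) (AlgSt.ofSpMap ((AlgSp.yon S).map h)) (AlgSt.toOverCat U)
      (AlgSt.toOverCat V) (K735.Rep.isEquivOver_toOverCat U) (K735.Rep.isEquivOver_toOverCat V) (Iso.refl _)
  rw [e1, K735.SpFp.repByAlgSpWith_ofSpMap_iff] at H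
  have h1 := (H (𝟙 _) ((AlgSp.yon S).map h) (𝟙 _) (IsPullback.of_horiz_isIso ⟨by simp⟩).flip).2
  exact h1 (𝟙 _) (𝟙 _) h (AlgSp.repWith_id _ U) (AlgSp.repWith_id _ V) (by simp)

/-- Arrows between etale charts are etale. -/
theorem EtCh.etale {c d : 𝒴.obj} (hd : EtCh h𝒴 d) (hc : EtCh h𝒴 c) (g : d ⟶ c) : Etale (𝒴.p.map g).left := by
  obtain ⟨e⟩ := exists_iso_comp h𝒴 g
  have h1 : AlgSt.RepByAlgSpWith (LocP @Etale) (BasedFunctor.comp (AlgSt.overMap (𝒴.p.map g)) (yonF h𝒴 c rfl)) :=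
    K735.Rep.repByAlgSpWith_of_iso _ e.symm hd
  have h2 : AlgSt.RepByAlgSpWith (LocP @Etale) (FibCat.diag (yonF h𝒴 c rfl)) :=
    K739.Alg.repByAlgSpWith_mono (fun A B f hf => K597.locP_of_repWith
      (fun A B C e f (he : Etale e) (hf : Etale f) => inferInstance)
      (K610.Base.repWith_mono (fun A B g (hg : IsOpenImmersion g) => (inferInstance : Etale g)) hf))
      (K739.StabEt.openImm_diag hc)
  have hN := K734.Rep.nice_locP_etale (S := S)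
  refine etale_of_overMap _ (K739.ChartDiag.repByAlgSpWith_of_comp (P := LocP @Etale) (Q := LocP @Etale)
    (R := LocP @Etale) hN.bc hN.loc (fun X Y Z hX hY hZ a b ha hb => hN.comp hX hY hZ a b ha hb)
    (isFibGrpd_overCat _) (isFibGrpd_overCat _) h𝒴 _ _ h1 h2)

end Ch

section SpanCover

open K594.Elem

variable {𝒴 : BasedCategory.{v₃, u₃} (Over S)} {c c' : 𝒴.obj} {F : Sp S} {π : F ⟶ (yon S).obj (𝒴.p.obj c)}

theorem sec_comp {G H : Sp S} {W : Over S} (t : (yon S).obj W ⟶ G) (q : G ⟶ H) :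
    secEquiv (t ≫ q) = q.hom.app (op W) (secEquiv t) := rfl

theorem symm_map {G : Sp S} {W W' : Over S} (g : W' ⟶ W) (x : G.obj.obj (op W)) :
    secEquiv.symm (G.obj.map g.op x) = (yon S).map g ≫ secEquiv.symm x := K635.Glue.secEquiv_symm_map g x

theorem map_sec (R : SpanRep2 c c' F π) {z : 𝒴.obj} (a : z ⟶ c) (m : z ⟶ c') {z' : 𝒴.obj} (φ : z' ⟶ z) :
    F.obj.map (𝒴.p.map φ).op (R.sec z a m) = R.sec z' (φ ≫ a) (φ ≫ m) := R.map φ a m _ _ rfl rfl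

/-- A chart of the space of spans gives a universal span up to etale coverings. -/
theorem exists_span_cover (hπ : IsEtaleMor π) (R : SpanRep2 c c' F π) {W : Over S} (w : (yon S).obj W ⟶ F)
    (hw1 : RepWith @Etale w) (hw2 : RepWith @Surjective w) :
    ∃ (zW : 𝒴.obj) (a : zW ⟶ c) (m : zW ⟶ c') (e : W = 𝒴.p.obj zW), (yon S).map (eqToHom e ≫ 𝒴.p.map a) = w ≫ π ∧
      Etale (𝒴.p.map a).left ∧ ∀ (z : 𝒴.obj) (a' : z ⟶ c) (m' : z ⟶ c'), ∃ (V : Over S) (v : V ⟶ 𝒴.p.obj z), Etale v.left ∧ Surjective v.left ∧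
        ∀ ⦃z' : 𝒴.obj⦄ (φ : z' ⟶ z) (g : 𝒴.p.obj z' ⟶ V), g ≫ v = 𝒴.p.map φ →
          ∃ k : z' ⟶ zW, k ≫ a = φ ≫ a' ∧ k ≫ m = φ ≫ m' := by
  obtain ⟨zW, a, m, e, hs⟩ := R.surj (secEquiv w)
  subst e
  rw [eqToHom_refl, op_id, Functor.map_id_apply] at hs
  have hw : w = secEquiv.symm (R.sec zW a m) := by rw [hs, Equiv.symm_apply_apply]
  have h2 : w ≫ π = (yon S).map (𝒴.p.map a) := by
    apply secEquiv.injective
    rw [sec_comp, hw, Equiv.apply_symm_apply, R.proj]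
    have := yonEquiv_apply ((yon S).map (𝒴.p.map a)) (𝟙 (𝒴.p.obj zW))
    rw [map_id_apply] at this
    rw [← this]
    exact congrArg ULift.up (Category.id_comp _).symm
  refine ⟨zW, a, m, rfl, by rw [h2, eqToHom_refl, Category.id_comp], ?_, ?_⟩
  · have h1 := hπ w hw1
    rw [h2, AlgSp.repWith_yon_map_iff] at h1
    exact h1
  · intro z a' m'
    obtain ⟨V, v, ξ, hξ, hv⟩ := RepWith.exists_isRep hw1 (R.sec z a' m')
    refine ⟨V, v, hv, RepWith.prop_of_isRep hw2 hξ, fun z' φ g hg => ?_⟩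
    obtain ⟨h⟩ := ξ
    have h1 : F.obj.map h.op (R.sec zW a m) = F.obj.map v.op (R.sec z a' m') := by
      refine Eq.trans ?_ hξ.w
      rw [hw]
      exact (yonEquiv_symm_apply _ h).symm
    obtain ⟨k, -, hk1, hk2⟩ := R.full (φ ≫ a') (φ ≫ m') a m (g ≫ h) (by
      rw [← map_sec, ← hg, ← map_map_of g h _ rfl, h1, map_map_of g v _ rfl])
    exact ⟨k, hk1, hk2⟩

/-- The locus where two arrows to an etale chart agree is open. -/
theorem exists_eq_locus (h𝒴 : FibCat.IsFibGrpd 𝒴.p) (hF : IsAlgSpace F) (hπ : IsEtaleMor π) (R : SpanRep2 c c' F π)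
    (g g' : c ⟶ c') :
    ∃ (O : Over S) (o : O ⟶ 𝒴.p.obj c), IsOpenImmersion o.left ∧ ∀ ⦃z : 𝒴.obj⦄ (φ : z ⟶ c),
      φ ≫ g = φ ≫ g' ↔ ∃ k : 𝒴.p.obj z ⟶ O, k ≫ o = 𝒴.p.map φ := by
  let a : (yon S).obj (𝒴.p.obj c) ⟶ F := secEquiv.symm (R.sec c (𝟙 c) g)
  let b : (yon S).obj (𝒴.p.obj c) ⟶ F := secEquiv.symm (R.sec c (𝟙 c) g')
  have hab : a ≫ π = b ≫ π := by
    apply secEquiv.injective
    rw [sec_comp, sec_comp, Equiv.apply_symm_apply, Equiv.apply_symm_apply, R.proj, R.proj]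
  obtain ⟨E, e, he, he', hu, -⟩ := K635.EtTop.exists_equalizer hF (IsAlgSpace.yon_obj _) hπ a b hab
  obtain ⟨O, o, fst, sq⟩ := he.1 (𝟙 _)
  have ho : IsOpenImmersion o.left := he.2 _ _ _ sq
  have hO : (yon S).map o = fst ≫ e := by rw [sq.w, Category.comp_id]
  have key : ∀ ⦃z : 𝒴.obj⦄ (φ : z ⟶ c) (h : z ⟶ c) (_ : φ = h), φ ≫ g = φ ≫ g' ↔ (yon S).map (𝒴.p.map φ) ≫ a = (yon S).map (𝒴.p.map φ) ≫ b := by
    rintro z φ _ rfl
    change _ ↔ (yon S).map (𝒴.p.map φ) ≫ secEquiv.symm (R.sec c (𝟙 c) g) = (yon S).map (𝒴.p.map φ) ≫ secEquiv.symm (R.sec c (𝟙 c) g')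
    rw [← symm_map, ← symm_map, secEquiv.symm.injective.eq_iff, map_sec, map_sec]
    constructor
    · intro h
      rw [h]
    · intro h
      obtain ⟨k, hk, hk1, hk2⟩ := R.full (φ ≫ 𝟙 c) (φ ≫ g) (φ ≫ 𝟙 c) (φ ≫ g') (𝟙 _) (by
        rw [op_id, Functor.map_id_apply, h])
      have hk3 : k = 𝟙 z := by
        refine hom_ext' h𝒴 φ (by rw [hk, 𝒴.p.map_id]) ?_
        simpa using hk1
      rw [← hk2, hk3, Category.id_comp]
  refine ⟨O, o, ho, fun z φ => ?_⟩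
  rw [key φ φ rfl]
  constructor
  · intro h
    obtain ⟨q, hq⟩ := hu _ _ h
    have h1 : q ≫ e = (yon S).map (𝒴.p.map φ) ≫ 𝟙 _ := by rw [hq, Category.comp_id]
    refine ⟨(yon S).preimage (sq.lift q _ h1), (yon S).map_injective ?_⟩
    rw [Functor.map_comp, Functor.map_preimage, sq.lift_snd]
  · rintro ⟨k, hk⟩
    rw [← hk, Functor.map_comp, hO]
    simp only [Category.assoc]
    rw [he']

end SpanCover

end K736.Charts
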