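import Groth.Agent.AlgSt.K736.Zmt.Charts
import Groth.Agent.AlgSt.K600.EtChart
import Groth.Agent.AlgSt.K739.Props
import Groth.Agent.AlgSp.K600.LimClosed
import Groth.Agent.S10519
import Groth.Agent.AlgSt.K741.FlatDesc
import Groth.Agent.AlgSt.K738.RespIso

/-!
# The system of affine etale charts over a given affine etale atlas (helper736)
-/

set_option autoImplicit false
set_option linter.unusedVariables false
set_option backward.isDefEq.respectTransparency false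
set_option backward.isDefEq.respectTransparency.types false

universe w v₃ u₃ v₂ u₂ v u

open CategoryTheory CategoryTheory.Limits AlgebraicGeometry Opposite K735.Fib K735.Fp AlgSp K736.Span

namespace K736.Charts

variable {S : Scheme.{u}} {𝒴 : AlgSt.Cat S} (h𝒴 : FibCat.IsFibGrpd 𝒴.p)

section QC

include h𝒴 in
/-- Charts by affine schemes are quasi-compact. -/
theorem qc_of_affine [QuasiSeparatedSpace S] (hΔ : AlgSt.RepByAlgSpWith AlgSp.IsQuasiCompactMor (FibCat.diag (FibCat.toSelf 𝒴)))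
    {U : Over S} (hU : IsAffine U.left) (x : FibCat.overCat U ⥤ᵇ 𝒴) : AlgSt.RepByAlgSpWith AlgSp.IsQuasiCompactMor x := by
  have h1 : AlgSt.RepByAlgSpWith AlgSp.IsQuasiCompactMor (BasedFunctor.comp x (FibCat.toSelf 𝒴)) := by
    have h2 : AlgSt.RepByAlgSpWith AlgSp.IsQuasiCompactMor (AlgSt.overMap (Over.mkIdTerminal.from U)) := by
      refine K746.DiagFin.repByAlgSpWith_overMap (P := @QuasiCompact)
        (fun A B f hf => K596.QC.isQuasiCompactMor_of_repWith hf) _ ((AlgSp.repWith_yon_map_iff _ _).2 ?_)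
      have : QuasiSeparatedSpace (Over.mk (𝟙 S) : Over S).left := ‹QuasiSeparatedSpace S›
      infer_instance
    have h3 : AlgSt.RepByAlgSpWith AlgSp.IsQuasiCompactMor (FibCat.toSelf (FibCat.overCat U)) :=
      (K735.Rep.repByAlgSpWith_iff_of_sq _ (FibCat.toSelf (FibCat.overCat U))
        (AlgSt.overMap (Over.mkIdTerminal.from U)) (BasedFunctor.id _)
        (FibCat.toSelf (FibCat.overCat (Over.mk (𝟙 S)))) K735.Fib.isEquivOver_id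
        (K740.DiagRep.isEquivOver_toSelf_overCat Over.mkIdTerminal) (K739.Alg.selfIso _ _)).2 h2
    exact K735.Rep.repByAlgSpWith_of_iso _ (K739.Alg.selfIso _ _) h3
  exact K739.ChartDiag.repByAlgSpWith_of_comp (P := AlgSp.IsQuasiCompactMor) (Q := AlgSp.IsQuasiCompactMor)
    (R := AlgSp.IsQuasiCompactMor) K739.Props.bc_qc (K734.Rep.isLocalOnBase_of_fpqc (Groth.Agent.S10519.result S))
    (fun X Y Z hX hY hZ a b ha hb => K739.Props.comp_qc hX hY hZ a b ha hb) (isFibGrpd_overCat _) h𝒴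
    K735.Fp.isFibGrpd_selfOver _ _ h1 hΔ

end QC

section Fib

include h𝒴 in
/-- Fibre products of objects over fibre products of the bases. -/
theorem exists_fib {c d b : 𝒴.obj} (g : c ⟶ b) (a : d ⟶ b) {T : Over S} (q₁ : T ⟶ 𝒴.p.obj c) (q₂ : T ⟶ 𝒴.p.obj d)
    (hq : IsPullback q₁ q₂ (𝒴.p.map g) (𝒴.p.map a)) :
    ∃ (e : 𝒴.obj) (he : 𝒴.p.obj e = T) (p₁ : e ⟶ c) (p₂ : e ⟶ d), 𝒴.p.map p₁ = eqToHom he ≫ q₁ ∧
      𝒴.p.map p₂ = eqToHom he ≫ q₂ ∧ p₁ ≫ g = p₂ ≫ a ∧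
      IsPullback (𝒴.p.map p₁) (𝒴.p.map p₂) (𝒴.p.map g) (𝒴.p.map a) ∧
      ∀ ⦃z : 𝒴.obj⦄ (x : z ⟶ c) (y : z ⟶ d), x ≫ g = y ≫ a → ∃ k : z ⟶ e, k ≫ p₁ = x ∧ k ≫ p₂ = y := by
  obtain ⟨e, p₁, he, hp₁⟩ := exists_lift h𝒴 q₁
  subst he
  rw [eqToHom_refl, Category.id_comp] at hp₁
  subst hp₁
  obtain ⟨p₂, hp₂, hw⟩ := exists_hom h𝒴 a (p₁ ≫ g) q₂ (by rw [𝒴.p.map_comp, hq.w])
  subst hp₂
  refine ⟨e, rfl, p₁, p₂, by simp, by simp, hw.symm, hq, fun z x y hxy => ?_⟩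
  obtain ⟨k, hk, hk'⟩ := exists_hom h𝒴 p₁ x (hq.lift (𝒴.p.map x) (𝒴.p.map y) (by
    rw [← 𝒴.p.map_comp, ← 𝒴.p.map_comp, hxy])) (hq.lift_fst _ _ _)
  refine ⟨k, hk', hom_ext' h𝒴 a ?_ ?_⟩
  · rw [𝒴.p.map_comp, hk, hq.lift_snd]
  · rw [Category.assoc, hw, ← Category.assoc, hk', hxy]

end Fib

section Chart

/-- A chart of a stack by an object. -/
theorem exists_object (h𝒴D : AlgSt.IsDM Scheme.etalePrecoverage 𝒴) (hqc : AlgSt.IsQuasiCompact 𝒴) :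
    ∃ u : 𝒴.obj, IsAffine (𝒴.p.obj u).left ∧ AlgSt.RepByAlgSpWith AlgSp.IsEtaleMor (yonF h𝒴 u rfl) ∧
      AlgSt.RepByAlgSpWith AlgSp.IsSurjectiveMor (yonF h𝒴 u rfl) := by
  obtain ⟨U, x, hU, h1, h2⟩ := K600.EtChart.exists_chart h𝒴D hqc
  have key : ∀ (c : 𝒴.obj) (e : 𝒴.p.obj c = U), AlgSt.RepByAlgSpWith AlgSp.IsEtaleMor (yonF h𝒴 c e) →
      AlgSt.RepByAlgSpWith AlgSp.IsSurjectiveMor (yonF h𝒴 c e) → IsAffine (𝒴.p.obj c).left ∧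
      AlgSt.RepByAlgSpWith AlgSp.IsEtaleMor (yonF h𝒴 c rfl) ∧
      AlgSt.RepByAlgSpWith AlgSp.IsSurjectiveMor (yonF h𝒴 c rfl) := by
    intro c e h3 h4
    subst e
    exact ⟨hU, h3, h4⟩
  obtain ⟨i, -⟩ := exists_yonIso h𝒴 x (yonF h𝒴 (x.obj (idObj U)) (x.w_obj _)) (yonFIso h𝒴 (x.obj (idObj U)) (x.w_obj _)).inv
    (Vert.iso_inv (vert_yonFIso h𝒴 _ _))
  exact ⟨x.obj (idObj U), key _ (x.w_obj _) (K735.Rep.repByAlgSpWith_of_iso _ i h1) (K735.Rep.repByAlgSpWith_of_iso _ i h2)⟩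

theorem etCh_of_isEtaleMor {c : 𝒴.obj} (h : AlgSt.RepByAlgSpWith AlgSp.IsEtaleMor (yonF h𝒴 c rfl)) : EtCh h𝒴 c :=
  K740.SpIso.repByAlgSpWith_imp h fun F U q hq => K597.locP_etale_of_isEtaleMor hq

/-- A chart of the spans of `u`. -/
theorem exists_pair {u : 𝒴.obj} (hu : EtCh h𝒴 u) (hA : IsAffine (𝒴.p.obj u).left)
    (hqc : AlgSt.RepByAlgSpWith AlgSp.IsQuasiCompactMor (yonF h𝒴 u rfl)) :
    ∃ (r : 𝒴.obj) (s t : r ⟶ u), IsAffine (𝒴.p.obj r).left ∧ Etale (𝒴.p.map s).left ∧ Etale (𝒴.p.map t).left ∧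
      ∀ (z : 𝒴.obj) (m₁ m₂ : z ⟶ u), ∃ (V : Over S) (v : V ⟶ 𝒴.p.obj z), Etale v.left ∧ Surjective v.left ∧
        ∀ ⦃z' : 𝒴.obj⦄ (φ : z' ⟶ z) (g : 𝒴.p.obj z' ⟶ V), g ≫ v = 𝒴.p.map φ →
          ∃ k : z' ⟶ r, k ≫ s = φ ≫ m₁ ∧ k ≫ t = φ ≫ m₂ := by
  have h1 : AlgSt.RepByAlgSpWith (LocP @Etale ⊓ AlgSp.IsQuasiCompactMor) (yonF h𝒴 u rfl) :=
    K735.Top.repByAlgSpWith_inf hu hqc
  obtain ⟨F, π, hF, ⟨p1, p2⟩, ⟨R⟩⟩ := exists_spanRep2 h𝒴 u u h1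
  have hπ : IsEtaleMor π := K597.isEtaleMor_of_locP_etale K597.etLoc_etale (IsAlgSpace.yon_obj _) p1
  have hFc : IsQuasiCompactSp F := p2 (IsAlgSpace.yon_obj _) (K596.QC.isQuasiCompactSp_yon _) (𝟙 _) (𝟙 _) π
    (IsPullback.id_horiz π)
  obtain ⟨W, w, hW, hw1, hw2⟩ := K609.QC.exists_affine_chart hFc
  obtain ⟨r, s, t, e, -, hs, H⟩ := exists_span_cover hπ R w hw1 hw2
  subst e
  exact ⟨r, s, t, hW, hs, EtCh.etale h𝒴 (hu.of_hom h𝒴 s hs) hu t, H⟩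

/-- Every object is etale locally a pullback of the atlas. -/
theorem exists_local {u : 𝒴.obj} (hu : AlgSt.RepByAlgSpWith AlgSp.IsEtaleMor (yonF h𝒴 u rfl))
    (hs : AlgSt.RepByAlgSpWith AlgSp.IsSurjectiveMor (yonF h𝒴 u rfl)) (z : 𝒴.obj) :
    ∃ (z' : 𝒴.obj) (φ : z' ⟶ z) (_ : z' ⟶ u), Etale (𝒴.p.map φ).left ∧ Surjective (𝒴.p.map φ).left := by
  have h1 : AlgSt.RepByAlgSpWith (AlgSp.IsSurjectiveMor ⊓ AlgSp.LocP @Etale) (yonF h𝒴 u rfl) :=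
    K735.Top.repByAlgSpWith_inf hs (etCh_of_isEtaleMor h𝒴 hu)
  obtain ⟨F, π, hF, ⟨p1, p2⟩, ⟨R⟩⟩ := exists_spanRep2 h𝒴 z u h1
  have hπ : IsEtaleMor π := K597.isEtaleMor_of_locP_etale K597.etLoc_etale (IsAlgSpace.yon_obj _) p2
  obtain ⟨W, w, hw1, hw2⟩ := hF.atlas
  obtain ⟨z', φ, m, e, he, hφ, -⟩ := exists_span_cover hπ R w hw1 hw2
  subst e
  refine ⟨z', φ, m, hφ, ?_⟩
  rw [← K741.surjective_left_iff]
  rw [eqToHom_refl, Category.id_comp] at he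
  rw [he]
  exact K608.Field.isSurjectiveMor_comp (K596.Pts.surjective_of_repWith hw2) p1

end Chart

end K736.Charts
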