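import Groth.Agent.AlgSt.K736.Zmt.Charts2

/-!
# The full subcategory of affine etale charts (helper736)
-/

set_option autoImplicit false
set_option linter.unusedVariables false
set_option backward.isDefEq.respectTransparency false
set_option backward.isDefEq.respectTransparency.types false

universe w v₃ u₃ v₂ u₂ v u

open CategoryTheory CategoryTheory.Limits AlgebraicGeometry Opposite K735.Fib K735.Fp AlgSp K736.Span K736.Fam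

namespace K736.Charts

variable {S : Scheme.{u}} {𝒴 : AlgSt.Cat S}

/-- The affine charts over `u`. -/
def Dp (𝒴 : AlgSt.Cat S) (u : 𝒴.obj) : ObjectProperty 𝒴.obj := fun c =>
  IsAffine (𝒴.p.obj c).left ∧ ∃ m : c ⟶ u, Etale (𝒴.p.map m).left

variable (h𝒴 : FibCat.IsFibGrpd 𝒴.p) {u : 𝒴.obj} (hu : EtCh h𝒴 u)

include hu in
theorem Dp.etCh {c : 𝒴.obj} (hc : Dp 𝒴 u c) : EtCh h𝒴 c := by
  obtain ⟨-, m, hm⟩ := hc
  exact hu.of_hom h𝒴 m hm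

include hu in
theorem Dp.etale {c d : 𝒴.obj} (hd : Dp 𝒴 u d) (hc : Dp 𝒴 u c) (g : d ⟶ c) : Etale (𝒴.p.map g).left :=
  EtCh.etale h𝒴 (hd.etCh h𝒴 hu) (hc.etCh h𝒴 hu) g

theorem Dp.of_etale {c d : 𝒴.obj} (hc : Dp 𝒴 u c) (g : d ⟶ c) (hg : Etale (𝒴.p.map g).left)
    (hA : IsAffine (𝒴.p.obj d).left) : Dp 𝒴 u d := by
  obtain ⟨-, m, hm⟩ := hc
  refine ⟨hA, g ≫ m, ?_⟩
  rw [𝒴.p.map_comp, Over.comp_left]
  infer_instance

include h𝒴 hu in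
theorem Dp.fib {c d b : 𝒴.obj} (hc : Dp 𝒴 u c) (hd : Dp 𝒴 u d) (hb : Dp 𝒴 u b) (g : c ⟶ b) (a : d ⟶ b) :
    ∃ (e : 𝒴.obj) (p₁ : e ⟶ c) (p₂ : e ⟶ d), Dp 𝒴 u e ∧ p₁ ≫ g = p₂ ≫ a ∧
      IsPullback (𝒴.p.map p₁) (𝒴.p.map p₂) (𝒴.p.map g) (𝒴.p.map a) ∧
      ∀ ⦃z : 𝒴.obj⦄ (x : z ⟶ c) (y : z ⟶ d), x ≫ g = y ≫ a → ∃ k : z ⟶ e, k ≫ p₁ = x ∧ k ≫ p₂ = y := by
  obtain ⟨e, he, p₁, p₂, h1, h2, h3, h4, h5⟩ := exists_fib h𝒴 g a _ _ (IsPullback.of_hasPullback (𝒴.p.map g) (𝒴.p.map a))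
  have h6 : IsPullback (𝒴.p.map p₁).left (𝒴.p.map p₂).left (𝒴.p.map g).left (𝒴.p.map a).left := h4.map (Over.forget S)
  have := hc.1
  have := hd.1
  have := hb.1
  have hA : IsAffine (𝒴.p.obj e).left := .of_isIso h6.isoPullback.hom
  have h7 : Etale (𝒴.p.map p₁).left := MorphismProperty.of_isPullback h6.flip (hd.etale h𝒴 hu hb a)
  exact ⟨e, p₁, p₂, hc.of_etale p₁ h7 hA, h3, h4, h5⟩

include h𝒴 in
/-- Affine open neighbourhoods of charts. -/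
theorem exists_open {c : 𝒴.obj} (hc : Dp 𝒴 u c) {O : Over S} (o : O ⟶ 𝒴.p.obj c) (ho : IsOpenImmersion o.left) (x : O.left) :
    ∃ (d : 𝒴.obj) (n : d ⟶ c) (i : 𝒴.p.obj d ⟶ O), Dp 𝒴 u d ∧ i ≫ o = 𝒴.p.map n ∧ IsOpenImmersion i.left ∧
      x ∈ Set.range i.left := by
  obtain ⟨A, hA, hx, -⟩ := exists_isAffineOpen_mem_and_subset (X := O.left) (x := x) (U := ⊤) trivial
  let T : Over S := Over.mk (A.ι ≫ O.hom)
  let i : T ⟶ O := Over.homMk A.ι rfl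
  obtain ⟨d, n, e, hn⟩ := exists_lift h𝒴 (x := c) (i ≫ o)
  have hT : IsAffine T.left := hA
  have key : ∀ {T : Over S} (i : T ⟶ O) (hT : IsAffine T.left) (hi : IsOpenImmersion i.left) (hx : x ∈ Set.range i.left)
      (e : 𝒴.p.obj d = T) (hn : 𝒴.p.map n = eqToHom e ≫ i ≫ o), ∃ (i : 𝒴.p.obj d ⟶ O), Dp 𝒴 u d ∧
        i ≫ o = 𝒴.p.map n ∧ IsOpenImmersion i.left ∧ x ∈ Set.range i.left := by
    intro T i hT hi hx e hn
    subst e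
    rw [eqToHom_refl, Category.id_comp] at hn
    refine ⟨i, hc.of_etale n ?_ hT, hn.symm, hi, hx⟩
    rw [hn, Over.comp_left]
    infer_instance
  have hi : IsOpenImmersion i.left := inferInstanceAs (IsOpenImmersion A.ι)
  obtain ⟨i', h1⟩ := key i hT hi ⟨⟨x, hx⟩, rfl⟩ e hn
  exact ⟨d, n, i', h1⟩

include hu in
theorem locCof (hA : IsAffine (𝒴.p.obj u).left)
    (hqc : AlgSt.RepByAlgSpWith AlgSp.IsQuasiCompactMor (yonF h𝒴 u rfl)) :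
    LocCof (Dp 𝒴 u).ι (TopY.topY h𝒴 (AlgSp.J S)) where
  lc1 z c₁ c₂ m₁ m₂ := by
    obtain ⟨r, s, t, hr, hs, ht, H⟩ := exists_pair h𝒴 hu hA hqc
    have hDr : Dp 𝒴 u r := ⟨hr, s, hs⟩
    have hDu : Dp 𝒴 u u := ⟨hA, 𝟙 u, by rw [𝒴.p.map_id]; infer_instance⟩
    obtain ⟨n₁, hn₁⟩ := c₁.property.2
    obtain ⟨n₂, hn₂⟩ := c₂.property.2
    obtain ⟨e₁, x₁, y₁, he₁, w₁, -, H₁⟩ := Dp.fib h𝒴 hu c₁.property hDr hDu n₁ s
    obtain ⟨e₂, x₂, y₂, he₂, w₂, -, H₂⟩ := Dp.fib h𝒴 hu he₁ c₂.property hDu (y₁ ≫ t) n₂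
    let R : Sieve z := {
      arrows := fun z' φ => ∃ k : z' ⟶ e₂, k ≫ x₂ ≫ x₁ = φ ≫ m₁ ∧ k ≫ y₂ = φ ≫ m₂
      downward_closed := by
        rintro z' z'' φ ⟨k, h1, h2⟩ ψ
        exact ⟨ψ ≫ k, by rw [Category.assoc, h1, Category.assoc], by rw [Category.assoc, h2, Category.assoc]⟩ }
    refine ⟨R, ?_, ?_⟩
    · obtain ⟨V, v, hv1, hv2, H₀⟩ := H z (m₁ ≫ n₁) (m₂ ≫ n₂)
      refine mem_topY_of_pts h𝒴 fun q => ⟨V, v, hv1, hv2.surj q, fun z' φ g hg => ?_⟩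
      obtain ⟨k, hk1, hk2⟩ := H₀ φ g hg
      obtain ⟨k₁, hk₁, hk₁'⟩ := H₁ (φ ≫ m₁) k (by rw [Category.assoc, hk1])
      obtain ⟨k₂, hk₂, hk₂'⟩ := H₂ k₁ (φ ≫ m₂) (by rw [← Category.assoc, hk₁', hk2, Category.assoc])
      exact ⟨k₂, by rw [← Category.assoc, hk₂, hk₁], hk₂'⟩
    · rintro z' φ ⟨k, h1, h2⟩
      exact ⟨⟨e₂, he₂⟩, k, ObjectProperty.homMk (x₂ ≫ x₁), ObjectProperty.homMk y₂, h1, h2⟩
  lc2 z c c' m g g' hg := by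
    obtain ⟨F, π, hF, p1, ⟨R⟩⟩ := exists_spanRep2 h𝒴 c.obj c'.obj (c'.property.etCh h𝒴 hu)
    have hπ : IsEtaleMor π := K597.isEtaleMor_of_locP_etale K597.etLoc_etale (IsAlgSpace.yon_obj _) p1
    obtain ⟨O, o, ho, H⟩ := exists_eq_locus h𝒴 hF hπ R g.hom g'.hom
    obtain ⟨k₀, hk₀⟩ := (H m).1 hg
    let R : Sieve z := {
      arrows := fun z' φ => ∃ (d : (Dp 𝒴 u).FullSubcategory) (k : z' ⟶ d.obj) (n : d ⟶ c), k ≫ n.hom = φ ≫ m ∧ n ≫ g = n ≫ g'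
      downward_closed := by
        rintro z' z'' φ ⟨d, k, n, h1, h2⟩ ψ
        exact ⟨d, ψ ≫ k, n, by rw [Category.assoc, h1, Category.assoc], h2⟩ }
    refine ⟨R, ?_, fun z' φ h => h⟩
    refine mem_topY_of_pts h𝒴 fun q => ?_
    obtain ⟨d, n, i, hd, hi, hi', x, hx⟩ := exists_open h𝒴 c.property o ho (k₀.left q)
    let V₀ : (𝒴.p.obj z).left.Opens := k₀.left ⁻¹ᵁ i.left.opensRange
    let V : Over S := Over.mk (V₀.ι ≫ (𝒴.p.obj z).hom)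
    let v : V ⟶ 𝒴.p.obj z := Over.homMk V₀.ι rfl
    have hv : IsOpenImmersion v.left := inferInstanceAs (IsOpenImmersion V₀.ι)
    refine ⟨V, v, inferInstance, ⟨⟨q, ⟨x, hx⟩⟩, rfl⟩, fun z' φ g₀ hg₀ => ?_⟩
    have hl : ∃ l : V ⟶ 𝒴.p.obj d, l ≫ i = v ≫ k₀ := by
      have hr : Set.range (v ≫ k₀).left ⊆ Set.range i.left := by
        rintro _ ⟨y, rfl⟩
        exact y.2
      refine ⟨Over.homMk (IsOpenImmersion.lift i.left (v ≫ k₀).left hr) ?_, ?_⟩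
      · rw [← Over.w i, ← Category.assoc, IsOpenImmersion.lift_fac, Over.w]
      · ext
        exact IsOpenImmersion.lift_fac _ _ _
    obtain ⟨l, hl⟩ := hl
    obtain ⟨k, hk, hk'⟩ := exists_hom h𝒴 n (φ ≫ m) (g₀ ≫ l) (by
      rw [← hi, Category.assoc, ← Category.assoc l, hl, Category.assoc, hk₀, 𝒴.p.map_comp, ← hg₀, Category.assoc])
    exact ⟨⟨d, hd⟩, k, ObjectProperty.homMk n, hk', ObjectProperty.hom_ext _ ((H n).2 ⟨i, hi⟩)⟩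

include h𝒴 in
/-- Affine etale surjective refinements. -/
theorem exists_affine_cover {c : 𝒴.obj} (hc : Dp 𝒴 u c) {V : Over S} (v : V ⟶ 𝒴.p.obj c) (h1 : Etale v.left)
    (h2 : Surjective v.left) : ∃ (d : 𝒴.obj) (e : d ⟶ c) (g : 𝒴.p.obj d ⟶ V), Dp 𝒴 u d ∧ g ≫ v = 𝒴.p.map e ∧
      Surjective (𝒴.p.map e).left := by
  have := hc.1
  obtain ⟨Y, q, hY, hq, hq'⟩ := K600.LimClosed.exists_affine_of_etale_surjective v.left
  let T : Over S := Over.mk (q ≫ V.hom)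
  let i : T ⟶ V := Over.homMk q rfl
  obtain ⟨d, n, e, hn⟩ := exists_lift h𝒴 (x := c) (i ≫ v)
  have key : ∀ {T : Over S} (i : T ⟶ V) (hT : IsAffine T.left) (hi : Etale i.left) (hs : Surjective (i ≫ v).left)
      (e : 𝒴.p.obj d = T) (hn : 𝒴.p.map n = eqToHom e ≫ i ≫ v), ∃ (g : 𝒴.p.obj d ⟶ V), Dp 𝒴 u d ∧
        g ≫ v = 𝒴.p.map n ∧ Surjective (𝒴.p.map n).left := by
    intro T i hT hi hs e hn
    subst e
    rw [eqToHom_refl, Category.id_comp] at hn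
    refine ⟨i, hc.of_etale n ?_ hT, hn.symm, ?_⟩
    · rw [hn, Over.comp_left]
      infer_instance
    · rw [hn]
      exact hs
  obtain ⟨g, h3⟩ := key i hY hq hq' e hn
  exact ⟨d, n, g, h3⟩

end K736.Charts
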