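import Groth.Agent.AlgSt.K736.Zmt.Sub

/-!
# Quasi-coherent diagrams of finite subalgebras (helper736)
-/

set_option autoImplicit false
set_option backward.isDefEq.respectTransparency false
set_option linter.style.haveILetI false
set_option linter.unusedVariables false

universe v₁ u₁ u

open CategoryTheory CategoryTheory.Limits Opposite TensorProduct

namespace K736.Sub

open K736.Alg

theorem isPushout_of_bijective {A E Q T : CommRingCat.{u}} {f : A ⟶ E} {q : A ⟶ Q} {i : E ⟶ T} {j : Q ⟶ T}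
    (w : f ≫ i = q ≫ j) : letI := f.hom.toAlgebra; letI := q.hom.toAlgebra;
    ∀ (e : E ⊗[A] Q →+* T) (_ : ∀ x y, e (x ⊗ₜ[A] y) = i x * j y) (_ : Function.Bijective e), IsPushout f q i j := by
  letI := f.hom.toAlgebra
  letI := q.hom.toAlgebra
  intro e he hb
  have h1 := CommRingCat.isPushout_tensorProduct A E Q
  let e' : CommRingCat.of (E ⊗[A] Q) ≅ T := (RingEquiv.ofBijective e hb).toCommRingCatIso
  refine h1.of_iso (Iso.refl _) (Iso.refl _) (Iso.refl _) e' ?_ ?_ ?_ ?_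
  · simp; rfl
  · simp; rfl
  · ext x
    change e (x ⊗ₜ[A] 1) = i x
    rw [he, map_one, mul_one]
  · ext x
    change e ((1 : E) ⊗ₜ[A] x) = j x
    rw [he, map_one, one_mul]

/-- Base change of a subring. -/
theorem isPushout_sub {A E Q EQ : CommRingCat.{u}} {f : A ⟶ E} {q : A ⟶ Q} {iE : E ⟶ EQ} {iQ : Q ⟶ EQ}
    (h : IsPushout f q iE iQ) (hf : f.hom.Flat) (N : Subring Q) (N' : Subring EQ)
    (hN : sp iE.hom iQ.hom N.toAddSubgroup = N'.toAddSubgroup) (q' : A ⟶ CommRingCat.of N)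
    (hq' : q' ≫ CommRingCat.ofHom N.subtype = q) (iE' : E ⟶ CommRingCat.of N')
    (hiE' : iE' ≫ CommRingCat.ofHom N'.subtype = iE) (iQ' : CommRingCat.of N ⟶ CommRingCat.of N')
    (hiQ' : iQ' ≫ CommRingCat.ofHom N'.subtype = CommRingCat.ofHom N.subtype ≫ iQ) : IsPushout f q' iE' iQ' := by
  letI := f.hom.toAlgebra
  letI := q.hom.toAlgebra
  letI := q'.hom.toAlgebra
  letI := iE'.hom.toAlgebra
  haveI : Module.Flat A E := hf
  obtain ⟨e, he⟩ := K600.FlatMem.exists_equiv h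
  have w : f ≫ iE' = q' ≫ iQ' := by
    have hm : Mono (CommRingCat.ofHom N'.subtype) :=
      (ConcreteCategory.mono_iff_injective_of_preservesPullback _).2 Subtype.val_injective
    rw [← cancel_mono (CommRingCat.ofHom N'.subtype), Category.assoc, Category.assoc, hiE', hiQ', ← Category.assoc, hq', h.w]
  -- the inclusion
  let nL : CommRingCat.of N →ₐ[A] Q := { N.subtype with commutes' := fun r => congr($hq' r) }
  have hinj : Function.Injective (nL.toLinearMap.lTensor E) :=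
    Module.Flat.lTensor_preserves_injective_linearMap (M := E) nL.toLinearMap Subtype.val_injective
  letI : Algebra A (CommRingCat.of N') := (f ≫ iE').hom.toAlgebra
  haveI : IsScalarTower A E (CommRingCat.of N') := IsScalarTower.of_algebraMap_eq fun _ => rfl
  let jL : CommRingCat.of N →ₐ[A] CommRingCat.of N' := { iQ'.hom with commutes' := fun r => (congr($w r)).symm }
  let φ : E ⊗[A] CommRingCat.of N →ₐ[A] CommRingCat.of N' :=
    Algebra.TensorProduct.lift (IsScalarTower.toAlgHom A E (CommRingCat.of N')) jL (fun _ _ => Commute.all _ _)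
  have hφ : ∀ x y, φ (x ⊗ₜ[A] y) = iE' x * iQ' y := fun x y => by
    change Algebra.TensorProduct.lift _ _ _ _ = _
    rw [Algebra.TensorProduct.lift_tmul]
    rfl
  have hφ2 : ∀ z, (φ z : N').1 = e (nL.toLinearMap.lTensor E z) := by
    intro z
    induction z with
    | zero => rw [map_zero, map_zero, map_zero]; rfl
    | add s t hs ht => rw [map_add, map_add, map_add, ← hs, ← ht]; rfl
    | tmul x y =>
      rw [hφ, LinearMap.lTensor_tmul, he]
      have e1 : (iE' x : N').1 = iE x := congr($hiE' x)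
      have e2 : (iQ' y : N').1 = iQ y.1 := congr($hiQ' y)
      change (iE' x : N').1 * (iQ' y : N').1 = _
      rw [e1, e2]
      rfl
  refine isPushout_of_bijective w φ.toRingHom hφ ⟨?_, ?_⟩
  · intro z z' hz
    apply hinj
    apply e.injective
    rw [← hφ2, ← hφ2]
    exact congrArg Subtype.val hz
  · rintro ⟨y, hy⟩
    have hy' : y ∈ sp iE.hom iQ.hom N.toAddSubgroup := by rw [hN]; exact hy
    have h3 : ∀ y ∈ sp iE.hom iQ.hom N.toAddSubgroup, ∃ z, (φ z : N').1 = y := by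
      intro y hy
      induction hy using AddSubgroup.closure_induction with
      | mem x hx =>
        obtain ⟨a, n, hn, rfl⟩ := hx
        refine ⟨a ⊗ₜ[A] ⟨n, hn⟩, ?_⟩
        rw [hφ2, LinearMap.lTensor_tmul, he]
        rfl
      | zero => exact ⟨0, by rw [map_zero]; rfl⟩
      | add x y _ _ hx hy =>
        obtain ⟨z, rfl⟩ := hx
        obtain ⟨z', rfl⟩ := hy
        exact ⟨z + z', by rw [map_add]; rfl⟩
      | neg x _ hx =>
        obtain ⟨z, rfl⟩ := hx
        exact ⟨-z, by rw [map_neg]; rfl⟩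
    obtain ⟨z, hz⟩ := h3 y hy'
    exact ⟨z, Subtype.ext hz⟩

variable {D : Type u₁} [Category.{v₁} D]

/-- A quasi-coherent diagram of finite subalgebras. -/
structure SubDiag (X : Sys.{v₁, u₁, u} D) where
  F : ∀ c : D, Subring (X.M.obj (op c))
  mem : ∀ (c : D) (a : X.A.obj (op c)), (X.ρ.app (op c)).hom a ∈ F c
  pb : ∀ {c d : D} (g : d ⟶ c), X.pb g (F c).toAddSubgroup = (F d).toAddSubgroup
  fg : ∀ c : D, Fg (X.ρ.app (op c)) (F c).toAddSubgroup

namespace SubDiag

variable {X : Sys.{v₁, u₁, u} D} (𝔽 : SubDiag X)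

theorem map_mem {c d : D} (g : d ⟶ c) {x : X.M.obj (op c)} (hx : x ∈ 𝔽.F c) : (X.M.map g.op).hom x ∈ 𝔽.F d := by
  have h := X.mem_pb g (N := (𝔽.F c).toAddSubgroup) hx
  rw [𝔽.pb] at h
  exact h

/-- The transition maps. -/
def tr {c d : D} (g : d ⟶ c) : 𝔽.F c →+* 𝔽.F d :=
  ((X.M.map g.op).hom.comp (𝔽.F c).subtype).codRestrict (𝔽.F d) fun x => 𝔽.map_mem g x.2

/-- The diagram. -/
@[simps] def fn : Dᵒᵖ ⥤ CommRingCat.{u} where
  obj c := CommRingCat.of (𝔽.F c.unop)
  map g := CommRingCat.ofHom (𝔽.tr g.unop)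
  map_id c := by
    ext x
    change (X.M.map (𝟙 c)).hom x.1 = x.1
    rw [X.M.map_id]
    rfl
  map_comp f g := by
    ext x
    change (X.M.map (f ≫ g)).hom x.1 = (X.M.map g).hom ((X.M.map f).hom x.1)
    rw [X.M.map_comp]
    rfl

/-- the structure map -/
def α : X.A ⟶ 𝔽.fn where
  app c := CommRingCat.ofHom ((X.ρ.app c).hom.codRestrict (𝔽.F c.unop) fun a => 𝔽.mem c.unop a)
  naturality c d g := by
    ext x
    apply Subtype.ext
    exact congr($(X.ρ.naturality g) x)

/-- the inclusion -/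
def β : 𝔽.fn ⟶ X.M where
  app c := CommRingCat.ofHom (𝔽.F c.unop).subtype
  naturality c d g := rfl

@[simp] theorem α_β : 𝔽.α ≫ 𝔽.β = X.ρ := rfl

theorem β_injective (c : Dᵒᵖ) : Function.Injective (𝔽.β.app c).hom := Subtype.val_injective

theorem po {c d : D} (g : d ⟶ c) :
    IsPushout (X.A.map g.op) (𝔽.α.app (op c)) (𝔽.α.app (op d)) (𝔽.fn.map g.op) :=
  isPushout_sub (X.po g) (X.flat g) (𝔽.F c) (𝔽.F d) (𝔽.pb g) _ rfl _ rfl _ rfl

theorem finite (c : D) : (𝔽.α.app (op c)).hom.Finite := by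
  obtain ⟨t, ht⟩ := 𝔽.fg c
  let f : X.A.obj (op c) →+* 𝔽.F c := (X.ρ.app (op c)).hom.codRestrict (𝔽.F c) fun a => 𝔽.mem c a
  change f.Finite
  letI := f.toAlgebra
  change Module.Finite (X.A.obj (op c)) (𝔽.F c)
  have hfin : {x : 𝔽.F c | x.1 ∈ t}.Finite := t.finite_toSet.preimage Subtype.val_injective.injOn
  refine ⟨?_⟩
  have h1 : (⊤ : Submodule (X.A.obj (op c)) (𝔽.F c)) = Submodule.span _ {x : 𝔽.F c | x.1 ∈ t} := by
    refine (top_le_iff.1 ?_).symm
    rintro ⟨y, hy⟩ -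
    have hy' : y ∈ sp (X.ρ.app (op c)).hom (RingHom.id _) (AddSubgroup.closure (t : Set _)) := by
      rw [← ht]
      exact hy
    have h2 : ∀ y ∈ AddSubgroup.closure (t : Set (X.M.obj (op c))), ∃ z ∈ Submodule.span (X.A.obj (op c))
        {x : 𝔽.F c | x.1 ∈ t}, z.1 = y := by
      intro y hy
      induction hy using AddSubgroup.closure_induction with
      | mem x hx =>
        have hx' : x ∈ 𝔽.F c := by
          have : x ∈ sp (X.ρ.app (op c)).hom (RingHom.id _) (AddSubgroup.closure (t : Set _)) :=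
            mem_sp (j := RingHom.id _) (AddSubgroup.subset_closure hx)
          rw [← ht] at this
          exact this
        exact ⟨⟨x, hx'⟩, Submodule.subset_span hx, rfl⟩
      | zero => exact ⟨0, zero_mem _, rfl⟩
      | add x y _ _ hx hy =>
        obtain ⟨z, hz, rfl⟩ := hx
        obtain ⟨z', hz', rfl⟩ := hy
        exact ⟨z + z', add_mem hz hz', rfl⟩
      | neg x _ hx =>
        obtain ⟨z, hz, rfl⟩ := hx
        exact ⟨-z, neg_mem hz, rfl⟩
    have h3 : ∀ y ∈ sp (X.ρ.app (op c)).hom (RingHom.id _) (AddSubgroup.closure (t : Set _)),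
        ∃ z ∈ Submodule.span (X.A.obj (op c)) {x : 𝔽.F c | x.1 ∈ t}, z.1 = y := by
      intro y hy
      induction hy using AddSubgroup.closure_induction with
      | mem x hx =>
        obtain ⟨a, n, hn, rfl⟩ := hx
        obtain ⟨z, hz, rfl⟩ := h2 n hn
        exact ⟨a • z, Submodule.smul_mem _ a hz, rfl⟩
      | zero => exact ⟨0, zero_mem _, rfl⟩
      | add x y _ _ hx hy =>
        obtain ⟨z, hz, rfl⟩ := hx
        obtain ⟨z', hz', rfl⟩ := hy
        exact ⟨z + z', add_mem hz hz', rfl⟩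
      | neg x _ hx =>
        obtain ⟨z, hz, rfl⟩ := hx
        exact ⟨-z, neg_mem hz, rfl⟩
    obtain ⟨z, hz, hzy⟩ := h3 y hy'
    have : z = ⟨y, hy⟩ := Subtype.ext hzy
    rw [← this]
    exact hz
  rw [h1]
  exact Submodule.fg_span hfin

end SubDiag

/-- The diagram generated by a stable subalgebra. -/
theorem Sys.exists_subDiag (X : Sys.{v₁, u₁, u} D) {u : D} (hD : ∀ c : D, Nonempty (c ⟶ u)) (F : AddSubgroup (X.M.obj (op u)))
    (h0 : IsSub (X.ρ.app (op u)) F) (h1 : (1 : X.M.obj (op u)) ∈ F) (h2 : ∀ x ∈ F, ∀ y ∈ F, x * y ∈ F)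
    (h3 : Fg (X.ρ.app (op u)) F) (h4 : ∀ ⦃d : D⦄ (m₁ m₂ : d ⟶ u), X.pb m₁ F ≤ X.pb m₂ F) :
    ∃ 𝔽 : SubDiag X, (𝔽.F u).toAddSubgroup = F := by
  have h5 : ∀ ⦃d : D⦄ (m₁ m₂ : d ⟶ u), X.pb m₁ F = X.pb m₂ F := fun d m₁ m₂ => le_antisymm (h4 _ _) (h4 _ _)
  let m : ∀ c : D, c ⟶ u := fun c => (hD c).some
  let G : ∀ c : D, Subring (X.M.obj (op c)) := fun c =>
    { X.pb (m c) F with
      mul_mem' := fun {a b} ha hb => mul_mem h2 ha hb
      one_mem' := one_mem h1 }
  have hG : ∀ c, (G c).toAddSubgroup = X.pb (m c) F := fun c => rfl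
  refine ⟨⟨G, fun c a => ?_, fun {c d} g => ?_, fun c => ?_⟩, ?_⟩
  · have := smul_mem (i := (X.ρ.app (op c)).hom) a (one_mem (i := (X.ρ.app (op c)).hom) (j := (X.M.map (m c).op).hom) h1)
    rw [mul_one] at this
    exact this
  · rw [hG, hG, X.pb_comp]
    exact h5 _ _
  · rw [hG]
    exact X.fg_pb _ h3
  · rw [hG, h5 (m u) (𝟙 u)]
    refine le_antisymm (sp_le fun a n hn => ?_) fun x hx => ?_
    · rw [op_id, X.M.map_id]
      exact h0 a n hn
    · have := X.mem_pb (𝟙 u) hx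
      rw [op_id, X.M.map_id] at this
      exact this

end K736.Sub
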