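import Groth.Agent.AlgSt.K736.Zmt.TopY
import Groth.Agent.AlgSt.K748.El
import Groth.Agent.AlgSt.K747.Top
import Groth.Agent.AlgSp.K615.Zmt
import Groth.Agent.AlgSt.K739.Diag
import Groth.Agent.AlgSp.K594.RepAlg

/-!
# Representability of the category of sections of a sheaf (helper736)

`K736.ElRep.repByAlgSpWith`: `𝔾` a sheaf on the total category of `𝒵` which is etale locally (on the base) representable by
schemes with `P` (`RepAt`): then `el 𝔾 ⟶ 𝒵` is representable with `P`.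
-/

set_option autoImplicit false
set_option backward.isDefEq.respectTransparency false
set_option backward.isDefEq.respectTransparency.types false

universe w v₂ u₂ v u

open CategoryTheory CategoryTheory.Limits AlgebraicGeometry Opposite K735.Fib K748.El

namespace K736.ElRep

variable {S : Scheme.{u}} {𝒵 : BasedCategory.{v₂, u₂} (Over S)}

section Tot

variable (𝔾 : 𝒵.objᵒᵖ ⥤ Type (u + 1)) {B : Over S} (y : FibCat.overCat B ⥤ᵇ 𝒵)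

/-- the arrow of `𝒵` over `v` -/
def yh {V V' : Over S} (v : V' ⟶ V) {t : V ⟶ B} {t' : V' ⟶ B} (e : v ≫ t = t') :
    y.obj (Over.mk t') ⟶ y.obj (Over.mk t) := y.map (Over.homMk v e : Over.mk t' ⟶ Over.mk t)

theorem yh_id {V : Over S} {t : V ⟶ B} (e : 𝟙 V ≫ t = t) : yh y (𝟙 V) e = 𝟙 _ := by
  have : (Over.homMk (𝟙 V) e : Over.mk t ⟶ Over.mk t) = 𝟙 _ := Over.OverMorphism.ext rfl
  rw [yh, this]
  exact y.map_id _

theorem yh_comp {V V' V'' : Over S} (w : V'' ⟶ V') (v : V' ⟶ V) {t : V ⟶ B} {t' : V' ⟶ B} {t'' : V'' ⟶ B}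
    (e' : w ≫ t' = t'') (e : v ≫ t = t') (e'' : (w ≫ v) ≫ t = t'') : yh y w e' ≫ yh y v e = yh y (w ≫ v) e'' := by
  rw [yh, yh, yh, ← y.map_comp]
  congr 1

theorem p_yh {V V' : Over S} (v : V' ⟶ V) {t : V ⟶ B} {t' : V' ⟶ B} (e : v ≫ t = t') :
    𝒵.p.map (yh y v e) = eqToHom (y.w_obj (Over.mk t')) ≫ v ≫ eqToHom (y.w_obj (Over.mk t)).symm :=
  map_map y _

/-- sections over `V`: a map to `B` and a section -/
abbrev Tot (V : Over S) : Type (u + 1) := Σ t : V ⟶ B, 𝔾.obj (op (y.obj (Over.mk t)))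

variable {𝔾 y}

theorem tot_ext {V : Over S} {x x' : Tot 𝔾 y V} (e : x.1 = x'.1)
    (h : 𝔾.map (yh y (𝟙 V) (by rw [Category.id_comp, e]) : y.obj (Over.mk x.1) ⟶ y.obj (Over.mk x'.1)).op x'.2 = x.2) :
    x = x' := by
  obtain ⟨t, s⟩ := x
  obtain ⟨t', s'⟩ := x'
  obtain rfl : t = t' := e
  dsimp only at h
  rw [yh_id, op_id, Functor.map_id_apply] at h
  rw [h]

theorem map_id_of {a : 𝒵.obj} (f : a ⟶ a) (h : f = 𝟙 a) (s : 𝔾.obj (op a)) : 𝔾.map f.op s = s := by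
  subst h
  rw [op_id, Functor.map_id_apply]

theorem map_comp_of {a b c : 𝒵.obj} (f : a ⟶ b) (g : b ⟶ c) (h : a ⟶ c) (e : f ≫ g = h) (s : 𝔾.obj (op c)) :
    𝔾.map f.op (𝔾.map g.op s) = 𝔾.map h.op s := by
  subst e
  rw [op_comp, Functor.map_comp_apply]

variable (𝔾 y)

/-- the presheaf of sections -/
def tot : AlgSp.PSp S where
  obj V := Tot 𝔾 y V.unop
  map {V V'} g := ↾fun x => ⟨g.unop ≫ x.1, 𝔾.map (yh y g.unop rfl).op x.2⟩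
  map_id V := by
    refine ConcreteCategory.hom_ext _ _ fun x => ?_
    refine tot_ext (x := (⟨𝟙 V.unop ≫ x.1, 𝔾.map (yh y (𝟙 V.unop) rfl).op x.2⟩ : Tot 𝔾 y V.unop)) (x' := x)
      (Category.id_comp _) ?_
    rfl
  map_comp {V V' V''} f g := by
    refine ConcreteCategory.hom_ext _ _ fun x => ?_
    refine tot_ext (x := (⟨(g.unop ≫ f.unop) ≫ x.1, 𝔾.map (yh y (g.unop ≫ f.unop) rfl).op x.2⟩ : Tot 𝔾 y V''.unop))
      (x' := ⟨g.unop ≫ f.unop ≫ x.1, 𝔾.map (yh y g.unop rfl).op (𝔾.map (yh y f.unop rfl).op x.2)⟩)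
      (Category.assoc _ _ _) ?_
    refine (map_comp_of _ _ _ (yh_comp y _ _ _ _ (by simp)) _).trans (map_comp_of _ _ _ ?_ _)
    refine (yh_comp y _ _ _ _ (by simp)).trans ?_
    congr 1

/-- the structure map -/
def totMap : tot 𝔾 y ⟶ (AlgSp.pyon S).obj B where
  app V := ↾fun x => ⟨x.1⟩

/-- the model -/
def totModel : Model 𝔾 y (totMap 𝔾 y) where
  κ β x hx := 𝔾.map (y.map (Over.homMk (𝟙 _) (by
      rw [Category.id_comp]; exact hx) : β ⟶ Over.mk x.1)).op x.2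
  inj β x x' hx hx' h := by
    obtain ⟨t, s⟩ := x
    obtain ⟨t', s'⟩ := x'
    obtain rfl : t = β.hom := hx
    obtain rfl : t' = β.hom := hx'
    have h1 : (Over.homMk (𝟙 _) (by rw [Category.id_comp]; rfl) : β ⟶ Over.mk β.hom) = 𝟙 β := Over.OverMorphism.ext rfl
    have h2 : y.map (Over.homMk (𝟙 _) (by rw [Category.id_comp]; rfl) : β ⟶ Over.mk β.hom) = 𝟙 (y.obj β) := by
      rw [h1]; exact y.map_id _
    rw [(map_id_of (𝔾 := 𝔾) _ h2 s).symm.trans (h.trans (map_id_of (𝔾 := 𝔾) _ h2 s'))]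
  surj β s := by
    refine ⟨⟨β.hom, s⟩, rfl, ?_⟩
    have h1 : (Over.homMk (𝟙 _) (by rw [Category.id_comp]; rfl) : β ⟶ Over.mk β.hom) = 𝟙 β := Over.OverMorphism.ext rfl
    have h2 : y.map (Over.homMk (𝟙 _) (by rw [Category.id_comp]; rfl) : β ⟶ Over.mk β.hom) = 𝟙 (y.obj β) := by
      rw [h1]; exact y.map_id _
    exact map_id_of (𝔾 := 𝔾) _ h2 s
  nat β β' t x hx hx' := by
    change 𝔾.map _ (𝔾.map _ x.2) = 𝔾.map _ (𝔾.map _ x.2)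
    rw [← Functor.map_comp_apply, ← Functor.map_comp_apply, ← op_comp, ← op_comp, yh, ← y.map_comp, ← y.map_comp]
    congr 3

variable {𝔾 y}

theorem tot_map_eq {V W : Over S} (w : W ⟶ V) (x : Tot 𝔾 y V) (t : W ⟶ B) (e : w ≫ x.1 = t) :
    (tot 𝔾 y).map w.op x = (⟨t, 𝔾.map (yh y w e).op x.2⟩ : Tot 𝔾 y W) := by
  subst e
  rfl

theorem snd_eq {V : Over S} {t : V ⟶ B} {s s' : 𝔾.obj (op (y.obj (Over.mk t)))}
    (h : (⟨t, s⟩ : Tot 𝔾 y V) = ⟨t, s'⟩) : s = s' := by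
  have := Sigma.mk.inj h
  exact eq_of_heq this.2

theorem exists_snd {V : Over S} (x : Tot 𝔾 y V) {t : V ⟶ B} (e : x.1 = t) :
    ∃ s, x = (⟨t, s⟩ : Tot 𝔾 y V) := by
  obtain ⟨t', s⟩ := x
  obtain rfl : t' = t := e
  exact ⟨s, rfl⟩

theorem isSheaf_tot (h𝒵 : FibCat.IsFibGrpd 𝒵.p) (h𝔾 : Presieve.IsSheaf (TopY.topY h𝒵 (AlgSp.J S)) 𝔾) :
    Presheaf.IsSheaf (AlgSp.J S) (tot 𝔾 y) := by
  rw [isSheaf_iff_isSheaf_of_type]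
  intro V R hR x hx
  have hx' := (Presieve.compatible_iff_sieveCompatible x).1 hx
  -- glue the maps to `B`
  obtain ⟨t, ht, htu⟩ := K747.Top.isSheafFor_yoneda Scheme.fppfPrecoverage B V R hR
    (fun W w hw => ((x w hw : Tot 𝔾 y W).1 : W ⟶ B)) (by
      rw [Presieve.compatible_iff_sieveCompatible]
      intro W W' w w' hw
      exact congrArg (fun z : Tot 𝔾 y W' => z.1) (hx' w w' hw))
  have ht' : ∀ (W : Over S) (w : W ⟶ V) (hw : R w), (x w hw : Tot 𝔾 y W).1 = w ≫ t := fun W w hw => (ht w hw).symm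
  choose s hs using fun (W : Over S) (w : W ⟶ V) (hw : R w) => exists_snd (x w hw : Tot 𝔾 y W) (ht' W w hw)
  let ι := Σ W : Over S, {w : W ⟶ V // R w}
  let X : ι → 𝒵.obj := fun i => y.obj (Over.mk (i.2.1 ≫ t))
  let π : ∀ i : ι, X i ⟶ y.obj (Over.mk t) := fun i => yh y i.2.1 rfl
  have hsh : Presieve.IsSheafFor 𝔾 (Presieve.ofArrows X π) := by
    rw [Presieve.isSheafFor_iff_generate]
    refine h𝔾 _ (TopY.mem_of_pushforward ?_)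
    refine (AlgSp.J S).superset_covering ?_ ((AlgSp.J S).pullback_stable (eqToHom (y.w_obj (Over.mk t))) hR)
    intro W w hw
    let i : ι := ⟨W, w ≫ eqToHom (y.w_obj (Over.mk t)), hw⟩
    refine ⟨X i, π i, eqToHom (y.w_obj (Over.mk (i.2.1 ≫ t))).symm, ⟨X i, 𝟙 _, π i, ⟨i⟩, Category.id_comp _⟩, ?_⟩
    change w = _ ≫ 𝒵.p.map (yh y (w ≫ eqToHom (y.w_obj (Over.mk t))) rfl)
    rw [p_yh]
    simp
  rw [Presieve.isSheafFor_arrows_iff] at hsh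
  obtain ⟨s₀, h1, h2⟩ := hsh (fun i => s i.1 i.2.1 i.2.2) (by
    rintro ⟨W₁, w₁, hw₁⟩ ⟨W₂, w₂, hw₂⟩ Z g₁ g₂ hg
    change g₁ ≫ yh y w₁ rfl = g₂ ≫ yh y w₂ rfl at hg
    change 𝔾.map g₁.op (s W₁ w₁ hw₁) = 𝔾.map g₂.op (s W₂ w₂ hw₂)
    let a : 𝒵.p.obj Z ⟶ W₁ := 𝒵.p.map g₁ ≫ eqToHom (y.w_obj (Over.mk (w₁ ≫ t)))
    let b : 𝒵.p.obj Z ⟶ W₂ := 𝒵.p.map g₂ ≫ eqToHom (y.w_obj (Over.mk (w₂ ≫ t)))
    have hab : a ≫ w₁ = b ≫ w₂ := by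
      have := congrArg (fun z => 𝒵.p.map z ≫ eqToHom (y.w_obj (Over.mk t))) hg
      dsimp only at this
      rw [𝒵.p.map_comp, 𝒵.p.map_comp, p_yh, p_yh] at this
      simpa [a, b] using this
    have e₁ : a ≫ w₁ ≫ t = (a ≫ w₁) ≫ t := (Category.assoc _ _ _).symm
    have e₂ : b ≫ w₂ ≫ t = (a ≫ w₁) ≫ t := (Category.assoc _ _ _).symm.trans (congrArg (· ≫ t) hab.symm)
    have h3 : 𝔾.map (yh y a e₁).op (s W₁ w₁ hw₁) = 𝔾.map (yh y b e₂).op (s W₂ w₂ hw₂) := by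
      refine snd_eq (t := (a ≫ w₁) ≫ t) ?_
      refine (tot_map_eq a (⟨w₁ ≫ t, s W₁ w₁ hw₁⟩ : Tot 𝔾 y W₁) _ e₁).symm.trans
        (Eq.trans ?_ (tot_map_eq b (⟨w₂ ≫ t, s W₂ w₂ hw₂⟩ : Tot 𝔾 y W₂) _ e₂))
      rw [← hs W₁ w₁ hw₁, ← hs W₂ w₂ hw₂]
      refine (hx' w₁ a hw₁).symm.trans (Eq.trans ?_ (hx' w₂ b hw₂))
      have : ∀ (w w' : 𝒵.p.obj Z ⟶ V) (e : w = w') (hw : R w) (hw' : R w'), x w hw = x w' hw' := by
        rintro w _ rfl _ _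
        rfl
      exact this _ _ hab _ _
    obtain ⟨θ, hθ, h5⟩ := exists_hom h𝒵 (yh y a e₁) g₁ (eqToHom (y.w_obj (Over.mk ((a ≫ w₁) ≫ t))).symm) (by
      rw [p_yh]
      simp [a])
    have h4 : θ ≫ yh y b e₂ = g₂ := by
      refine hom_ext' h𝒵 (yh y w₂ rfl) ?_ ?_
      · rw [𝒵.p.map_comp, hθ, p_yh]
        simp [b]
      · have h6 : yh y b e₂ ≫ yh y w₂ rfl = yh y a e₁ ≫ yh y w₁ rfl := by
          rw [yh_comp y _ _ _ _ ((Category.assoc _ _ _).trans e₂), yh_comp y _ _ _ _ rfl]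
          congr 1
          exact hab.symm
        exact (Category.assoc _ _ _).trans ((congrArg (θ ≫ ·) h6).trans ((Category.assoc _ _ _).symm.trans
          ((congrArg (· ≫ yh y w₁ rfl) h5).trans hg)))
    rw [← map_comp_of θ (yh y a e₁) _ h5, h3, map_comp_of θ (yh y b e₂) _ h4])
  refine ⟨(⟨t, s₀⟩ : Tot 𝔾 y V), ?_, ?_⟩
  · intro W w hw
    refine (tot_map_eq w (⟨t, s₀⟩ : Tot 𝔾 y V) _ rfl).trans ?_
    rw [hs W w hw, ← h1 ⟨W, w, hw⟩]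
  · rintro ⟨t', s'⟩ h'
    obtain rfl : t' = t := htu t' fun W w hw => by
      have := congrArg (fun z : Tot 𝔾 y W => z.1) (h' w hw)
      exact this
    rw [h2 s' fun i => ?_]
    refine snd_eq ((tot_map_eq i.2.1 (⟨t', s'⟩ : Tot 𝔾 y V) _ rfl).symm.trans ?_)
    exact (h' i.2.1 i.2.2).trans (hs i.1 i.2.1 i.2.2)

end Tot

/-- `𝔾` is representable over `z` by the arrow `w : zW ⟶ z` (over a morphism of schemes) with universal section `ζ`. -/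
structure RepAt (𝔾 : 𝒵.objᵒᵖ ⥤ Type w) {z zW : 𝒵.obj} (w : zW ⟶ z) (ζ : 𝔾.obj (op zW)) : Prop where
  uniq : ∀ ⦃z' : 𝒵.obj⦄ (φ : z' ⟶ z) (s : 𝔾.obj (op z')), ∃! k : z' ⟶ zW, k ≫ w = φ ∧ 𝔾.map k.op ζ = s

open AlgSp K594.Elem

section Rep

variable {𝔾 : 𝒵.objᵒᵖ ⥤ Type (u + 1)} {B : Over S} {y : FibCat.overCat B ⥤ᵇ 𝒵}

/-- `tot` as a sheaf -/
abbrev totSp (h𝒵 : FibCat.IsFibGrpd 𝒵.p) (h𝔾 : Presieve.IsSheaf (TopY.topY h𝒵 (AlgSp.J S)) 𝔾)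
    (y : FibCat.overCat B ⥤ᵇ 𝒵) : Sp S := ⟨tot 𝔾 y, isSheaf_tot h𝒵 h𝔾⟩

/-- the structure map of sheaves -/
abbrev totSpMap (h𝒵 : FibCat.IsFibGrpd 𝒵.p) (h𝔾 : Presieve.IsSheaf (TopY.topY h𝒵 (AlgSp.J S)) 𝔾)
    (y : FibCat.overCat B ⥤ᵇ 𝒵) : totSp h𝒵 h𝔾 y ⟶ (yon S).obj B := ObjectProperty.homMk (totMap 𝔾 y)

theorem yh_congr (y : FibCat.overCat B ⥤ᵇ 𝒵) {V V' : Over S} {v v' : V' ⟶ V} (h : v = v') {t : V ⟶ B} {t' : V' ⟶ B}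
    (e : v ≫ t = t') (e' : v' ≫ t = t') : yh y v e = yh y v' e' := by
  subst h
  rfl

theorem isRep_of_repAt (h𝒵 : FibCat.IsFibGrpd 𝒵.p) (h𝔾 : Presieve.IsSheaf (TopY.topY h𝒵 (AlgSp.J S)) 𝔾)
    {z' zW : 𝒵.obj} (b : 𝒵.p.obj z' ⟶ B) (ψ : y.obj (Over.mk b) ⟶ z')
    (hψ : 𝒵.p.map ψ = eqToHom (y.w_obj (Over.mk b))) (w : zW ⟶ z') (ζ : 𝔾.obj (op zW)) (hw : RepAt 𝔾 w ζ) :
    ∃ ξ, IsRep (totSpMap h𝒵 h𝔾 y) (U := 𝒵.p.obj z') (⟨b⟩ : ((yon S).obj B).obj.obj (op _)) (𝒵.p.map w) ξ := by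
  obtain ⟨θ, hθ, hθw⟩ := exists_hom h𝒵 w (yh y (𝒵.p.map w) rfl ≫ ψ) (eqToHom (y.w_obj (Over.mk (𝒵.p.map w ≫ b)))) (by
    rw [𝒵.p.map_comp, hψ, p_yh]
    simp)
  have K : ∀ {T : Over S} (k : T ⟶ 𝒵.p.obj zW) (t : T ⟶ B) (e : k ≫ 𝒵.p.map w ≫ b = t),
      (tot 𝔾 y).map k.op (⟨𝒵.p.map w ≫ b, 𝔾.map θ.op ζ⟩ : Tot 𝔾 y _) =
        (⟨t, 𝔾.map (yh y k e ≫ θ).op ζ⟩ : Tot 𝔾 y T) := by
    intro T k t e
    refine (tot_map_eq k _ t e).trans ?_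
    dsimp only
    rw [map_comp_of (yh y k e) θ _ rfl]
  have Q : ∀ {T : Over S} (k : T ⟶ 𝒵.p.obj zW) (t : T ⟶ B) (e : k ≫ 𝒵.p.map w ≫ b = t) (l : T ⟶ 𝒵.p.obj z')
      (hl : k ≫ 𝒵.p.map w = l) (e' : l ≫ b = t), (yh y k e ≫ θ) ≫ w = yh y l e' ≫ ψ := by
    intro T k t e l hl e'
    have h1 : yh y k e ≫ yh y (𝒵.p.map w) rfl = yh y l e' :=
      (yh_comp y _ _ _ _ (by rw [hl, e'])).trans (yh_congr y hl _ _)
    exact (Category.assoc _ _ _).trans ((congrArg (yh y k e ≫ ·) hθw).trans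
      ((Category.assoc _ _ _).symm.trans (congrArg (· ≫ ψ) h1)))
  refine ⟨(⟨𝒵.p.map w ≫ b, 𝔾.map θ.op ζ⟩ : Tot 𝔾 y _), rfl, ?_, ?_⟩
  · intro T a a' haa h
    have e : a ≫ 𝒵.p.map w ≫ b = a ≫ 𝒵.p.map w ≫ b := rfl
    have e' : a' ≫ 𝒵.p.map w ≫ b = a ≫ 𝒵.p.map w ≫ b := by
      rw [← Category.assoc, ← haa, Category.assoc]
    have h1 := snd_eq ((K a _ e).symm.trans (h.trans (K a' _ e')))
    have h2 := (hw.uniq ((yh y a e ≫ θ) ≫ w) (𝔾.map (yh y a e ≫ θ).op ζ)).unique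
      ⟨rfl, rfl⟩ ⟨(Q a' _ e' (a ≫ 𝒵.p.map w) haa.symm (Category.assoc _ _ _)).trans
        (Q a _ e (a ≫ 𝒵.p.map w) rfl (Category.assoc _ _ _)).symm, h1.symm⟩
    have h3 := congrArg 𝒵.p.map h2
    rw [𝒵.p.map_comp, 𝒵.p.map_comp, hθ, p_yh, p_yh] at h3
    have h4 := (cancel_mono (eqToHom (y.w_obj (Over.mk (𝒵.p.map w ≫ b))))).1 h3
    have h5 := (cancel_epi _).1 h4
    exact (cancel_mono _).1 h5
  · intro T t x hx
    obtain ⟨s, rfl⟩ := exists_snd (x : Tot 𝔾 y T) (t := t ≫ b) (congrArg ULift.down hx)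
    obtain ⟨κ, ⟨hκ, hs⟩, -⟩ := hw.uniq (yh y t rfl ≫ ψ) s
    have h1 : (eqToHom (y.w_obj (Over.mk (t ≫ b))).symm ≫ 𝒵.p.map κ) ≫ 𝒵.p.map w = t := by
      rw [Category.assoc, ← 𝒵.p.map_comp, hκ, 𝒵.p.map_comp, hψ, p_yh]
      simp
    have e : (eqToHom (y.w_obj (Over.mk (t ≫ b))).symm ≫ 𝒵.p.map κ) ≫ 𝒵.p.map w ≫ b = t ≫ b := by
      rw [← Category.assoc, h1]
    refine ⟨eqToHom (y.w_obj (Over.mk (t ≫ b))).symm ≫ 𝒵.p.map κ, h1, ?_⟩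
    refine (K _ _ e).trans ?_
    have h2 : yh y (eqToHom (y.w_obj (Over.mk (t ≫ b))).symm ≫ 𝒵.p.map κ) e ≫ θ = κ := by
      refine hom_ext' h𝒵 w ?_ ((Q _ _ e t h1 rfl).trans hκ.symm)
      rw [𝒵.p.map_comp, hθ, p_yh]
      simp
    rw [h2, hs]

variable (P : MorphismProperty Scheme.{u})
    (hQ : ∀ ⦃X Y : Scheme.{u}⦄ (g : X ⟶ Y), P g → IsAffine Y → ∀ O : X.Opens, IsCompact (O : Set X) →
      (O : Scheme.{u}).IsQuasiAffine) [P.IsStableUnderBaseChange]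
    [IsZariskiLocalAtTarget P] [P.DescendsAlong K597.EffDesc.Fppf.{u}]

include hQ in
theorem repWith_tot (h𝒵 : FibCat.IsFibGrpd 𝒵.p) (h𝔾 : Presieve.IsSheaf (TopY.topY h𝒵 (AlgSp.J S)) 𝔾)
    (H : ∀ (z : 𝒵.obj) (t : (𝒵.p.obj z).left), ∃ (z' : 𝒵.obj) (φ : z' ⟶ z) (zW : 𝒵.obj) (w : zW ⟶ z') (ζ : 𝔾.obj (op zW)),
      Etale (𝒵.p.map φ).left ∧ t ∈ Set.range (𝒵.p.map φ).left ∧ RepAt 𝔾 w ζ ∧ P (𝒵.p.map w).left) :
    RepWith P (totSpMap h𝒵 h𝔾 y) := by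
  refine K615.Zmt.repWith_of_local P hQ fun T g t => ?_
  obtain ⟨⟨g₀⟩, hg⟩ : ∃ x, secEquiv g = x := ⟨_, rfl⟩
  let e₀ := y.w_obj (Over.mk g₀)
  obtain ⟨z', φ, zW, w, ζ, h1, ⟨t', ht'⟩, h3, h4⟩ := H (y.obj (Over.mk g₀)) ((eqToHom e₀.symm : T ⟶ _).left t)
  let v : 𝒵.p.obj z' ⟶ T := 𝒵.p.map φ ≫ eqToHom e₀
  obtain ⟨ψ, hψ, -⟩ := exists_hom h𝒵 φ (yh y v rfl : y.obj (Over.mk (v ≫ g₀)) ⟶ y.obj (Over.mk g₀))
    (eqToHom (y.w_obj (Over.mk (v ≫ g₀)))) (by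
      rw [p_yh]
      simp [v])
  obtain ⟨ξ, hξ⟩ := isRep_of_repAt h𝒵 h𝔾 (v ≫ g₀) ψ hψ w ζ h3
  refine ⟨_, v, _, 𝒵.p.map w, secEquiv.symm ξ, ?_, ?_, ?_, h4⟩
  · change Etale ((𝒵.p.map φ).left ≫ (eqToHom e₀).left)
    infer_instance
  · refine ⟨t', ?_⟩
    change ((𝒵.p.map φ).left ≫ (eqToHom e₀).left) t' = t
    rw [Scheme.Hom.comp_apply, ht', ← Scheme.Hom.comp_apply, ← Over.comp_left, eqToHom_trans, eqToHom_refl]
    rfl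
  · have := (isRep_iff_isPullback (totSpMap h𝒵 h𝔾 y) (⟨v ≫ g₀⟩ : ((yon S).obj B).obj.obj (op _)) (𝒵.p.map w) ξ).2 hξ
    convert this using 1
    apply secEquiv.injective
    rw [Equiv.apply_symm_apply]
    have h5 := yonEquiv_apply ((yon S).map v ≫ g) (𝟙 _)
    rw [map_id_apply] at h5
    rw [← h5]
    have h6 := yonEquiv_apply g (𝟙 _ ≫ v)
    refine h6.trans ?_
    rw [hg, Category.id_comp]
    rfl

include hQ in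
/-- Representability of `el 𝔾 ⟶ 𝒵`. -/
theorem repByAlgSpWith (h𝒵 : FibCat.IsFibGrpd 𝒵.p) (h𝔾 : Presieve.IsSheaf (TopY.topY h𝒵 (AlgSp.J S)) 𝔾)
    (H : ∀ (z : 𝒵.obj) (t : (𝒵.p.obj z).left), ∃ (z' : 𝒵.obj) (φ : z' ⟶ z) (zW : 𝒵.obj) (w : zW ⟶ z') (ζ : 𝔾.obj (op zW)),
      Etale (𝒵.p.map φ).left ∧ t ∈ Set.range (𝒵.p.map φ).left ∧ RepAt 𝔾 w ζ ∧ P (𝒵.p.map w).left) :
    AlgSt.RepByAlgSpWith (RepWith P) (elq 𝔾) := by
  refine repByAlgSpWith_of_model fun B y => ?_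
  have h := repWith_tot (y := y) P hQ h𝒵 h𝔾 H
  exact ⟨totSp h𝒵 h𝔾 y, totSpMap h𝒵 h𝔾 y, totModel 𝔾 y,
    K594.RepAlg.isAlgSpace_of_representable (IsAlgSpace.yon_obj _) _ h.1, h⟩

end Rep

end K736.ElRep
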