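import Mathlib

/-!
# Open immersions to schemes of subalgebras (helper736)
-/

set_option autoImplicit false

universe u

open CategoryTheory CategoryTheory.Limits AlgebraicGeometry

namespace K736.OpImm

variable {X T Y : Scheme.{u}}

theorem isOpenImmersion_of_fac (j : X ⟶ T) [IsOpenImmersion j] (k : X ⟶ Y) (φ : Y ⟶ T) [IsSeparated φ] [QuasiCompact k]
    [IsSchemeTheoreticallyDominant k] (h : k ≫ φ = j) : IsOpenImmersion k := by
  let σ : X ⟶ pullback j φ := pullback.lift (𝟙 X) k (by rw [h, Category.id_comp])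
  have h1 : σ ≫ pullback.fst j φ = 𝟙 X := pullback.lift_fst _ _ _
  have h2 : σ ≫ pullback.snd j φ = k := pullback.lift_snd _ _ _
  have h3 : IsClosedImmersion (σ ≫ pullback.fst j φ) := by rw [h1]; infer_instance
  have h4 : IsClosedImmersion σ := IsClosedImmersion.of_comp σ (pullback.fst j φ)
  have h5 : IsPullback (𝟙 X) σ k (pullback.snd j φ) := by
    refine ⟨⟨by rw [h2, Category.id_comp]⟩, ⟨PullbackCone.IsLimit.mk _ (fun s => s.fst) (fun s => Category.comp_id _)
      (fun s => ?_) (fun s m hm _ => ?_)⟩⟩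
    · rw [← cancel_mono (pullback.snd j φ), Category.assoc, h2]
      exact s.condition
    · simpa using hm
  have h6 : IsSchemeTheoreticallyDominant σ := IsSchemeTheoreticallyDominant.of_isPullback h5
  have h7 : IsIso σ := IsClosedImmersion.isIso_iff_ker_eq_bot.2 h6.ker_eq_bot
  rw [← h2]
  infer_instance

theorem isSchemeTheoreticallyDominant_of_injective [IsAffine Y] (k : X ⟶ Y) (h : Function.Injective k.appTop.hom) :
    IsSchemeTheoreticallyDominant k := by
  refine ⟨?_⟩
  rw [Scheme.ker_of_isAffine, (RingHom.injective_iff_ker_eq_bot _).1 h]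
  exact map_bot (Scheme.IdealSheafData.equivOfIsAffine (X := Y)).symm

/-- `F → Γ(X)` injective and containing the image of `B`, where `X` is open in `Spec B`: `X ⟶ Spec F` is an open immersion. -/
theorem isOpenImmersion_toSpec {B F : CommRingCat.{u}} [CompactSpace X] (j : X ⟶ Spec B) [IsOpenImmersion j]
    (a : B ⟶ F) (b : F ⟶ Γ(X, ⊤)) (hb : Function.Injective b.hom) (h : (X.toSpecΓ ≫ Spec.map b) ≫ Spec.map a = j) :
    IsOpenImmersion (X.toSpecΓ ≫ Spec.map b) := by
  have h1 : IsSchemeTheoreticallyDominant (X.toSpecΓ ≫ Spec.map b) := by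
    refine isSchemeTheoreticallyDominant_of_injective _ ?_
    rw [Scheme.Hom.comp_appTop, Scheme.toSpecΓ_appTop, Scheme.ΓSpecIso_naturality, CommRingCat.hom_comp]
    exact hb.comp (Scheme.ΓSpecIso F).commRingCatIsoToRingEquiv.injective
  have : QuasiCompact (X.toSpecΓ ≫ Spec.map b) := by
    infer_instance
  exact isOpenImmersion_of_fac j _ (Spec.map a) h

end K736.OpImm
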