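import Groth.Agent.AlgSt.K736.Zmt.Diag
import Groth.Agent.AlgSt.K736.Zmt.OpImm
import Groth.Agent.FlatA.ZMTFactor

/-!
# Zariski's Main Theorem for cartesian diagrams of schemes (helper736)
-/

set_option autoImplicit false
set_option backward.isDefEq.respectTransparency false
set_option linter.style.haveILetI false

universe v₁ u₁ u

open CategoryTheory CategoryTheory.Limits AlgebraicGeometry Opposite

namespace K736.SpecDiag

open K736.Alg K736.Sub

variable {S : Scheme.{u}} {D : Type u₁} [Category.{v₁} D] {P X : D ⥤ Over S} {π : X ⟶ P}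

/-- The diagram of rings of sections. -/
noncomputable def sys (cart : ∀ ⦃d c : D⦄ (g : d ⟶ c), IsPullback (X.map g) (π.app d) (π.app c) (P.map g))
    (aff : ∀ c, IsAffine (P.obj c).left) (et : ∀ ⦃d c : D⦄ (g : d ⟶ c), Etale (P.map g).left)
    (qc : ∀ c, QuasiCompact (π.app c).left) (qs : ∀ c, QuasiSeparated (π.app c).left) : Sys.{v₁, u₁, u} D where
  A := (P ⋙ Over.forget S).op ⋙ Scheme.Γ
  M := (X ⋙ Over.forget S).op ⋙ Scheme.Γ
  ρ := Functor.whiskerRight (NatTrans.op (Functor.whiskerRight π (Over.forget S))) Scheme.Γ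
  po c d g := by
    have := aff c
    have := aff d
    have := qc c
    have := qs c
    have := et g
    have h : IsPullback (X.map g).left (π.app d).left (π.app c).left (P.map g).left := (cart g).map (Over.forget S)
    exact (K600.FlatMem.isPushout_appTop h).flip
  sm c d g := by
    have := aff c
    have := aff d
    have := et g
    have : Smooth (P.map g).left := inferInstance
    exact HasRingHomProperty.appTop @Smooth (f := (P.map g).left) this

section Spec

variable (cart : ∀ ⦃d c : D⦄ (g : d ⟶ c), IsPullback (X.map g) (π.app d) (π.app c) (P.map g))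
    (aff : ∀ c, IsAffine (P.obj c).left) (et : ∀ ⦃d c : D⦄ (g : d ⟶ c), Etale (P.map g).left)
    (qc : ∀ c, QuasiCompact (π.app c).left) (qs : ∀ c, QuasiSeparated (π.app c).left)
    (𝔽 : SubDiag (sys cart aff et qc qs))

/-- The algebra. -/
noncomputable def R (c : D) : CommRingCat.{u} := 𝔽.fn.obj (op c)

/-- structure map -/
noncomputable def al (c : D) : Γ((P.obj c).left, ⊤) ⟶ R cart aff et qc qs 𝔽 c := 𝔽.α.app (op c)

/-- inclusion -/
noncomputable def be (c : D) : R cart aff et qc qs 𝔽 c ⟶ Γ((X.obj c).left, ⊤) := 𝔽.β.app (op c)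

/-- transition -/
noncomputable def rm {d c : D} (g : d ⟶ c) : R cart aff et qc qs 𝔽 c ⟶ R cart aff et qc qs 𝔽 d := 𝔽.fn.map g.op

theorem al_be (c : D) : al cart aff et qc qs 𝔽 c ≫ be cart aff et qc qs 𝔽 c = (π.app c).left.appTop := rfl

theorem al_rm {d c : D} (g : d ⟶ c) : al cart aff et qc qs 𝔽 c ≫ rm cart aff et qc qs 𝔽 g =
    (P.map g).left.appTop ≫ al cart aff et qc qs 𝔽 d := (𝔽.α.naturality g.op).symm

theorem rm_be {d c : D} (g : d ⟶ c) : rm cart aff et qc qs 𝔽 g ≫ be cart aff et qc qs 𝔽 d =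
    be cart aff et qc qs 𝔽 c ≫ (X.map g).left.appTop := 𝔽.β.naturality g.op

theorem rm_id (c : D) : rm cart aff et qc qs 𝔽 (𝟙 c) = 𝟙 _ := 𝔽.fn.map_id (op c)

theorem rm_comp {e d c : D} (h : e ⟶ d) (g : d ⟶ c) : rm cart aff et qc qs 𝔽 (h ≫ g) =
    rm cart aff et qc qs 𝔽 g ≫ rm cart aff et qc qs 𝔽 h := 𝔽.fn.map_comp g.op h.op

theorem be_inj (c : D) : Function.Injective (be cart aff et qc qs 𝔽 c).hom := 𝔽.β_injective (op c)

theorem po {d c : D} (g : d ⟶ c) : IsPushout (P.map g).left.appTop (al cart aff et qc qs 𝔽 c) (al cart aff et qc qs 𝔽 d)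
    (rm cart aff et qc qs 𝔽 g) := 𝔽.po g

theorem fin (c : D) : (al cart aff et qc qs 𝔽 c).hom.Finite := 𝔽.finite c

theorem exists_lift {c : D} {B : CommRingCat.{u}} (b : B ⟶ Γ((X.obj c).left, ⊤))
    (h : ∀ x, (b.hom x : (sys cart aff et qc qs).M.obj (op c)) ∈ 𝔽.F c) :
    ∃ a : B ⟶ R cart aff et qc qs 𝔽 c, a ≫ be cart aff et qc qs 𝔽 c = b :=
  ⟨CommRingCat.ofHom (b.hom.codRestrict (𝔽.F c) h), rfl⟩

attribute [irreducible] R al be rm

/-- the structure map -/
noncomputable def εl (c : D) : Spec (R cart aff et qc qs 𝔽 c) ⟶ (P.obj c).left :=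
  have := aff c
  Spec.map (al cart aff et qc qs 𝔽 c) ≫ (P.obj c).left.isoSpec.inv

theorem εl_toSpecΓ (c : D) : εl cart aff et qc qs 𝔽 c ≫ (P.obj c).left.toSpecΓ = Spec.map (al cart aff et qc qs 𝔽 c) := by
  have := aff c
  rw [εl, Category.assoc]
  have : (P.obj c).left.isoSpec.inv ≫ (P.obj c).left.toSpecΓ = 𝟙 _ := (P.obj c).left.isoSpec.inv_hom_id
  rw [this, Category.comp_id]

theorem εl_nat {d c : D} (g : d ⟶ c) : Spec.map (rm cart aff et qc qs 𝔽 g) ≫ εl cart aff et qc qs 𝔽 c =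
    εl cart aff et qc qs 𝔽 d ≫ (P.map g).left := by
  have := aff c
  have h2 : IsIso (P.obj c).left.toSpecΓ := inferInstance
  rw [← cancel_mono (P.obj c).left.toSpecΓ, Category.assoc, εl_toSpecΓ, Category.assoc, Scheme.toSpecΓ_naturality,
    ← Category.assoc, εl_toSpecΓ, ← Spec.map_comp, ← Spec.map_comp, al_rm]

/-- the diagram of spectra -/
noncomputable def E : D ⥤ Over S where
  obj c := Over.mk (εl cart aff et qc qs 𝔽 c ≫ (P.obj c).hom)
  map {d c} g := Over.homMk (Spec.map (rm cart aff et qc qs 𝔽 g)) (by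
    change Spec.map (rm cart aff et qc qs 𝔽 g) ≫ εl cart aff et qc qs 𝔽 c ≫ (P.obj c).hom =
      εl cart aff et qc qs 𝔽 d ≫ (P.obj d).hom
    rw [← Category.assoc, εl_nat, Category.assoc, Over.w])
  map_id c := by
    apply Over.OverMorphism.ext
    change Spec.map (rm cart aff et qc qs 𝔽 (𝟙 c)) = 𝟙 _
    rw [rm_id, Spec.map_id]
  map_comp f g := by
    apply Over.OverMorphism.ext
    change Spec.map (rm cart aff et qc qs 𝔽 (f ≫ g)) = Spec.map (rm cart aff et qc qs 𝔽 f) ≫ Spec.map (rm cart aff et qc qs 𝔽 g)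
    rw [rm_comp, Spec.map_comp]

/-- the structure map -/
noncomputable def ε : E cart aff et qc qs 𝔽 ⟶ P where
  app c := Over.homMk (εl cart aff et qc qs 𝔽 c) rfl
  naturality d c g := by
    apply Over.OverMorphism.ext
    exact εl_nat cart aff et qc qs 𝔽 g

theorem cart_ε ⦃d c : D⦄ (g : d ⟶ c) : IsPullback ((E cart aff et qc qs 𝔽).map g) ((ε cart aff et qc qs 𝔽).app d)
    ((ε cart aff et qc qs 𝔽).app c) (P.map g) := by
  have := aff c
  have := aff d
  refine IsPullback.of_map_of_faithful (Over.forget S) ?_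
  change IsPullback (Spec.map (rm cart aff et qc qs 𝔽 g)) (εl cart aff et qc qs 𝔽 d) (εl cart aff et qc qs 𝔽 c)
    (P.map g).left
  have h1 : IsPullback (Spec.map (rm cart aff et qc qs 𝔽 g)) (Spec.map (al cart aff et qc qs 𝔽 d))
      (Spec.map (al cart aff et qc qs 𝔽 c)) (Spec.map (P.map g).left.appTop) :=
    (isPullback_SpecMap_of_isPushout _ _ _ _ (po cart aff et qc qs 𝔽 g)).flip
  refine h1.of_iso (Iso.refl _) (Iso.refl _) (P.obj d).left.isoSpec.symm (P.obj c).left.isoSpec.symm ?_ ?_ ?_ ?_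
  · simp
  · simp [εl]
  · simp [εl]
  · rw [Iso.symm_hom, Iso.symm_hom, Iso.eq_inv_comp, ← Category.assoc, Iso.comp_inv_eq]
    exact (Scheme.toSpecΓ_naturality _).symm

/-- the map from `X` -/
noncomputable def jl (c : D) : (X.obj c).left ⟶ Spec (R cart aff et qc qs 𝔽 c) :=
  (X.obj c).left.toSpecΓ ≫ Spec.map (be cart aff et qc qs 𝔽 c)

theorem jl_εl (c : D) : jl cart aff et qc qs 𝔽 c ≫ εl cart aff et qc qs 𝔽 c = (π.app c).left := by
  have := aff c
  have h2 : IsIso (P.obj c).left.toSpecΓ := inferInstance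
  rw [← cancel_mono (P.obj c).left.toSpecΓ, Category.assoc, εl_toSpecΓ, jl, Category.assoc, ← Spec.map_comp, al_be,
    Scheme.toSpecΓ_naturality]

/-- the map from `X` -/
noncomputable def j : X ⟶ E cart aff et qc qs 𝔽 where
  app c := Over.homMk (jl cart aff et qc qs 𝔽 c) (by
    change jl cart aff et qc qs 𝔽 c ≫ εl cart aff et qc qs 𝔽 c ≫ (P.obj c).hom = _
    rw [← Category.assoc, jl_εl, Over.w])
  naturality d c g := by
    apply Over.OverMorphism.ext
    change (X.map g).left ≫ (X.obj c).left.toSpecΓ ≫ Spec.map (be cart aff et qc qs 𝔽 c) =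
      ((X.obj d).left.toSpecΓ ≫ Spec.map (be cart aff et qc qs 𝔽 d)) ≫ Spec.map (rm cart aff et qc qs 𝔽 g)
    rw [← Category.assoc, Scheme.toSpecΓ_naturality, Category.assoc, Category.assoc, ← Spec.map_comp, ← Spec.map_comp,
      rm_be]

theorem j_ε : j cart aff et qc qs 𝔽 ≫ ε cart aff et qc qs 𝔽 = π := by
  ext c
  exact jl_εl cart aff et qc qs 𝔽 c

theorem cart_j ⦃d c : D⦄ (g : d ⟶ c) : IsPullback (X.map g) ((j cart aff et qc qs 𝔽).app d)
    ((j cart aff et qc qs 𝔽).app c) ((E cart aff et qc qs 𝔽).map g) := by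
  have h1 := cart g
  rw [← j_ε cart aff et qc qs 𝔽] at h1
  exact IsPullback.of_bot h1 ((j cart aff et qc qs 𝔽).naturality g) (cart_ε cart aff et qc qs 𝔽 g)

theorem finite_ε (c : D) : IsFinite ((ε cart aff et qc qs 𝔽).app c).left := by
  have := aff c
  change IsFinite (Spec.map (al cart aff et qc qs 𝔽 c) ≫ (P.obj c).left.isoSpec.inv)
  have : IsFinite (Spec.map (al cart aff et qc qs 𝔽 c)) := (IsFinite.SpecMap_iff _).2 (fin cart aff et qc qs 𝔽 c)
  infer_instance

end Spec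

section Main

/-- **Zariski's Main Theorem** for a cartesian diagram over a system of etale charts. -/
theorem exists_diag (cart : ∀ ⦃d c : D⦄ (g : d ⟶ c), IsPullback (X.map g) (π.app d) (π.app c) (P.map g))
    (aff : ∀ c, IsAffine (P.obj c).left) (et : ∀ ⦃d c : D⦄ (g : d ⟶ c), Etale (P.map g).left)
    (u : D) (hD : ∀ c : D, Nonempty (c ⟶ u)) (hn : IsLocallyNoetherian (P.obj u).left)
    (h1 : LocallyQuasiFinite (π.app u).left) (h2 : LocallyOfFiniteType (π.app u).left)
    (h3 : QuasiCompact (π.app u).left) (h4 : IsSeparated (π.app u).left) {r : D} (s t : r ⟶ u)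
    (cov : ∀ ⦃d : D⦄ (m₁ m₂ : d ⟶ u), ∃ (d' : D) (e : d' ⟶ d) (k : d' ⟶ r), Surjective (P.map e).left ∧
      k ≫ s = e ≫ m₁ ∧ k ≫ t = e ≫ m₂)
    (fib : ∃ (r₂ : D) (π₁ π₂ : r₂ ⟶ r), π₁ ≫ t = π₂ ≫ s ∧ IsPullback (P.map π₁) (P.map π₂) (P.map t) (P.map s)) :
    ∃ (E : D ⥤ Over S) (ε : E ⟶ P) (j : X ⟶ E), j ≫ ε = π ∧
      (∀ ⦃d c : D⦄ (g : d ⟶ c), IsPullback (E.map g) (ε.app d) (ε.app c) (P.map g)) ∧
      (∀ ⦃d c : D⦄ (g : d ⟶ c), IsPullback (X.map g) (j.app d) (j.app c) (E.map g)) ∧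
      (∀ c, IsOpenImmersion (j.app c).left) ∧ ∀ c, IsFinite (ε.app c).left := by
  classical
  have hm : ∀ c : D, ∃ m : c ⟶ u, True := fun c => (hD c).elim fun m => ⟨m, trivial⟩
  choose m _ using hm
  have sq : ∀ c, IsPullback (X.map (m c)).left (π.app c).left (π.app u).left (P.map (m c)).left := fun c =>
    (cart (m c)).map (Over.forget S)
  have qc : ∀ c, QuasiCompact (π.app c).left := fun c => MorphismProperty.of_isPullback (sq c) h3
  have sep : ∀ c, IsSeparated (π.app c).left := fun c => MorphismProperty.of_isPullback (sq c) h4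
  have qs : ∀ c, QuasiSeparated (π.app c).left := fun c => by
    have := sep c
    infer_instance
  have := aff u
  -- the groupoid
  have H : (sys cart aff et qc qs).Grp s t := by
    refine ⟨fun d m₁ m₂ => ?_, ?_⟩
    · obtain ⟨d', e, k, he, e1, e2⟩ := cov m₁ m₂
      refine ⟨d', e, k, ?_, e1, e2⟩
      have := aff d
      have := aff d'
      have := et e
      exact (Flat.flat_and_surjective_iff_faithfullyFlat_of_isAffine (P.map e).left).1 ⟨inferInstance, he⟩
    · obtain ⟨r₂, π₁, π₂, e, hp⟩ := fib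
      refine ⟨r₂, π₁, π₂, e, ?_⟩
      have := aff r
      have := aff r₂
      have hp' : IsPullback (P.map π₁).left (P.map π₂).left (P.map t).left (P.map s).left := hp.map (Over.forget S)
      have := et t
      have := et s
      have h5 := K600.FlatMem.isPushout_appTop hp'
      exact h5
  -- Zariski's Main Theorem for the chart
  haveI : CompactSpace (P.obj u).left := inferInstance
  have hnoeth : IsNoetherianRing Γ((P.obj u).left, ⊤) := IsLocallyNoetherian.component_noetherian ⟨⊤, isAffineOpen_top _⟩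
  haveI : IsNoetherianRing ((sys cart aff et qc qs).A.obj (op u)) := hnoeth
  obtain ⟨T, j₀, p₀, hT, hj, -, hp, hjp⟩ := Groth.Agent.FlatA.ZMTFactor.exists_factor_of_isAffine (π.app u).left
  have hfin : (p₀.appTop).hom.Finite := p₀.finite_appTop
  have hρ : (π.app u).left.appTop = p₀.appTop ≫ j₀.appTop := by rw [← hjp, Scheme.Hom.comp_appTop]
  obtain ⟨t₀, ht₀⟩ : ∃ t₀ : Finset Γ(T, ⊤), ∀ b : Γ(T, ⊤), b ∈ sp p₀.appTop.hom (RingHom.id _)
      (AddSubgroup.closure (t₀ : Set Γ(T, ⊤))) := by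
    letI := p₀.appTop.hom.toAlgebra
    obtain ⟨⟨t₀, ht₀⟩⟩ := (hfin : Module.Finite Γ((P.obj u).left, ⊤) Γ(T, ⊤))
    refine ⟨t₀, fun b => ?_⟩
    have h5 := span_eq p₀.appTop (t₀ : Set Γ(T, ⊤))
    rw [← h5]
    change b ∈ Submodule.span _ _
    rw [ht₀]
    trivial
  let T₀ : Finset ((sys cart aff et qc qs).M.obj (op u)) := t₀.image j₀.appTop.hom
  have hT₀ : ∀ x ∈ T₀, ((sys cart aff et qc qs).ρ.app (op u)).hom.IsIntegralElem x := by
    intro x hx
    obtain ⟨y, -, rfl⟩ := Finset.mem_image.1 hx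
    have h5 : ((sys cart aff et qc qs).ρ.app (op u)).hom = j₀.appTop.hom.comp p₀.appTop.hom :=
      congrArg CommRingCat.Hom.hom hρ
    have h9 : (j₀.appTop.hom.comp p₀.appTop.hom).IsIntegralElem (j₀.appTop.hom y) := by
      obtain ⟨p, hp1, hp2⟩ := hfin.to_isIntegral y
      refine ⟨p, hp1, ?_⟩
      rw [← Polynomial.hom_eval₂, hp2, map_zero]
    rw [h5]
    exact h9
  obtain ⟨F, f0, f1, f2, f3, f4, f5⟩ := (sys cart aff et qc qs).exists_stable H T₀ hT₀
  obtain ⟨𝔽, h𝔽⟩ := (sys cart aff et qc qs).exists_subDiag hD F f0 f1 f2 f4 f5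
  have hmem : ∀ b : Γ(T, ⊤), (j₀.appTop.hom b : (sys cart aff et qc qs).M.obj (op u)) ∈ 𝔽.F u := by
    intro b
    change (j₀.appTop.hom b : (sys cart aff et qc qs).M.obj (op u)) ∈ (𝔽.F u).toAddSubgroup
    rw [h𝔽]
    have h6 : sp p₀.appTop.hom (RingHom.id _) (AddSubgroup.closure (t₀ : Set Γ(T, ⊤))) ≤
        F.comap j₀.appTop.hom.toAddMonoidHom := by
      refine sp_le fun a n hn => ?_
      change j₀.appTop.hom (p₀.appTop.hom a * n) ∈ F
      have h7 : AddSubgroup.closure (t₀ : Set Γ(T, ⊤)) ≤ F.comap j₀.appTop.hom.toAddMonoidHom := by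
        refine (AddSubgroup.closure_le _).2 fun x hx => ?_
        exact f3 _ (Finset.mem_image_of_mem _ hx)
      have h8 : j₀.appTop.hom (p₀.appTop.hom a) = ((sys cart aff et qc qs).ρ.app (op u)).hom a :=
        (congr($hρ a)).symm
      rw [map_mul, h8]
      exact f0 a _ (h7 hn)
    exact h6 (ht₀ b)
  obtain ⟨a, ha⟩ := exists_lift cart aff et qc qs 𝔽 j₀.appTop hmem
  have hXc : CompactSpace (X.obj u).left := (quasiCompact_iff_compactSpace (π.app u).left).1 inferInstance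
  have hop : IsOpenImmersion (jl cart aff et qc qs 𝔽 u) := by
    refine OpImm.isOpenImmersion_toSpec (j₀ ≫ T.isoSpec.hom) a (be cart aff et qc qs 𝔽 u)
      (be_inj cart aff et qc qs 𝔽 u) ?_
    rw [Category.assoc, ← Spec.map_comp, ha]
    exact (Scheme.toSpecΓ_naturality j₀).symm
  refine ⟨E cart aff et qc qs 𝔽, ε cart aff et qc qs 𝔽, j cart aff et qc qs 𝔽, j_ε cart aff et qc qs 𝔽,
    cart_ε cart aff et qc qs 𝔽, cart_j cart aff et qc qs 𝔽, fun c => ?_, finite_ε cart aff et qc qs 𝔽⟩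
  exact MorphismProperty.of_isPullback ((cart_j cart aff et qc qs 𝔽 (m c)).map (Over.forget S)) hop

end Main

end K736.SpecDiag
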