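import Groth.Agent.AlgSt.K736.Zmt.Charts3
import Groth.Agent.AlgSt.K736.Zmt.AdjRep
import Groth.Agent.AlgSt.K736.Zmt.ElRep
import Groth.Agent.AlgSt.K736.Zmt.SpecDiag
import Groth.Agent.AlgSp.K617.FinLoc
import Groth.Agent.AlgSp.K595.DescInst

/-!
# Zariski's Main Theorem for Deligne-Mumford stacks (helper736)
-/

set_option autoImplicit false
set_option linter.unusedVariables false
set_option backward.isDefEq.respectTransparency false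
set_option backward.isDefEq.respectTransparency.types false

universe w v₃ u₃ v₂ u₂ v u

open CategoryTheory CategoryTheory.Limits AlgebraicGeometry Opposite K735.Fib K735.Fp AlgSp K736.Fam K736.SecX

namespace K736.Zmt

variable {S : Scheme.{u}}

/-- Lifting of a pullback square of the bases. -/
theorem exists_lift_pullback {𝒵 : BasedCategory.{v₂, u₂} (Over S)} (h𝒵 : FibCat.IsFibGrpd 𝒵.p) {z : 𝒵.obj} {A B T : Over S}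
    {q : T ⟶ A} {w₀ : T ⟶ 𝒵.p.obj z} {a : A ⟶ B} {b : 𝒵.p.obj z ⟶ B} (hq : IsPullback q w₀ a b) :
    ∃ (zW : 𝒵.obj) (w : zW ⟶ z) (q' : 𝒵.p.obj zW ⟶ A), IsPullback q' (𝒵.p.map w) a b := by
  obtain ⟨zW, w, e, hw⟩ := exists_lift h𝒵 w₀
  subst e
  rw [eqToHom_refl, Category.id_comp] at hw
  subst hw
  exact ⟨zW, w, q, hq⟩

variable {𝒴 : AlgSt.Cat S} (h𝒴 : FibCat.IsFibGrpd 𝒴.p) {D : Type (u + 1)} [Category.{u} D] {ι : D ⥤ 𝒴.obj}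
  (𝔼 : CartDiag ι 𝒴.p) (hι : LocCof ι (TopY.topY h𝒴 (AlgSp.J S))) {u₀ : D}
  (hloc : ∀ z : 𝒴.obj, ∃ (z' : 𝒴.obj) (φ : z' ⟶ z) (_ : z' ⟶ ι.obj u₀), Etale (𝒴.p.map φ).left ∧ Surjective (𝒴.p.map φ).left)

include h𝒴 hι hloc in
/-- The category of families is finite over `𝒴`. -/
theorem isFinite_elq (hfin : ∀ c, IsFinite (𝔼.ε.app c).left) :
    AlgSt.RepByAlgSpWith AlgSp.IsFiniteMor (K748.El.elq (fm 𝔼)) := by
  have h1 : AlgSt.RepByAlgSpWith (RepWith @IsFinite) (K748.El.elq (fm 𝔼)) := by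
    have := K617.FinLoc.descendsAlong_finite.{u}
    refine ElRep.repByAlgSpWith @IsFinite ?_ h𝒴 (isSheaf_fm h𝒴 (Charts.isSheaf_yoneda S)) ?_
    · intro X Y g hg hY O hO
      have : IsFinite g := hg
      have : IsAffine X := isAffine_of_isAffineHom g
      exact K615.Zmt.qaff_of_open (𝟙 X) inferInstance inferInstance O hO
    · intro z t
      obtain ⟨z', φ, m, h2, h3⟩ := hloc z
      obtain ⟨zW, w, q, hq⟩ := exists_lift_pullback h𝒴 (IsPullback.of_hasPullback (𝔼.ε.app u₀) (𝒴.p.map m))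
      obtain ⟨ζ, -, H⟩ := Fam.exists_univ h𝒴 (Charts.isSheaf_yoneda S) hι m w q hq
      refine ⟨z', φ, zW, w, ζ, h2, h3.surj t, ⟨fun z'' ψ s => H ψ s⟩, ?_⟩
      have h4 : IsPullback q.left (𝒴.p.map w).left (𝔼.ε.app u₀).left (𝒴.p.map m).left := hq.map (Over.forget S)
      exact MorphismProperty.of_isPullback h4 (hfin u₀)
  exact K740.SpIso.repByAlgSpWith_imp h1 fun F U q hq => K617.FinLoc.isFiniteMor_iff.2 hq

variable {𝔼} {𝔛 : Cart 𝒴.p} (jj : ∀ c : D, 𝔛.X.obj (ι.obj c) ⟶ 𝔼.E.obj c)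
  (hjj : ∀ c, jj c ≫ 𝔼.ε.app c = 𝔛.π.app (ι.obj c)) (hn : ∀ ⦃d c : D⦄ (g : d ⟶ c), 𝔛.X.map (ι.map g) ≫ jj c = jj d ≫ 𝔼.E.map g)

include hι hloc in
/-- The category of sections is open in the category of families. -/
theorem isOpen_elq (hop : ∀ c, IsOpenImmersion (jj c).left) :
    AlgSt.RepByAlgSpWith (RepWith @IsOpenImmersion) (K748.El.elq (gs.{u + 1} jj hjj hn)) := by
  have := K595.DescInst.isOpenImmersion.{u}
  have he := K748.El.isFibGrpd_el (fm 𝔼) h𝒴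
  refine ElRep.repByAlgSpWith @IsOpenImmersion ?_ he (isSheaf_gs jj hjj hn h𝒴 (Charts.isSheaf_yoneda S)) ?_
  · intro X Y g hg hY O hO
    exact K615.Zmt.qaff_of_open g hg hY O hO
  · intro ζ t
    obtain ⟨z', φ, m, h2, h3⟩ := hloc ζ.base
    let ζ' : (K748.El.el (fm 𝔼)).obj := ⟨z', Fm.res φ ζ.sec⟩
    let φ' : ζ' ⟶ ζ := ⟨φ, rfl⟩
    have sq := IsPullback.of_hasPullback (jj u₀) (Fm.σ ζ'.sec (𝟙 _) m)
    obtain ⟨ζW, w, e, τ, hw, H⟩ := SecX.exists_univ.{u + 1} jj hjj hn h𝒴 (Charts.isSheaf_yoneda S) hι (ζ := ζ') m _ _ sq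
    refine ⟨ζ', φ', ζW, w, τ, h2, h3.surj t, ⟨fun z'' ψ s => H ψ s⟩, ?_⟩
    change IsOpenImmersion (𝒴.p.map w.hom).left
    rw [hw, Over.comp_left]
    have h4 := sq.map (Over.forget S)
    have h5 : IsOpenImmersion (pullback.snd (jj u₀) (Fm.σ ζ'.sec (𝟙 _) m)).left :=
      MorphismProperty.of_isPullback h4 (hop u₀)
    infer_instance

/-- The factorization. -/
theorem finish {𝒳 𝒴 : AlgSt.Cat S} (hX : FibCat.IsFibGrpd 𝒳.p) (hY : FibCat.IsFibGrpd 𝒴.p) {f : 𝒳 ⥤ᵇ 𝒴} (R : Adj.RAdj f)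
    {D : Type (u + 1)} [Category.{u} D] {ι : D ⥤ 𝒴.obj}
    (𝔼 : CartDiag ι 𝒴.p) (hι : LocCof ι (TopY.topY hY (AlgSp.J S))) {u₀ : D}
    (hloc : ∀ z : 𝒴.obj, ∃ (z' : 𝒴.obj) (φ : z' ⟶ z) (_ : z' ⟶ ι.obj u₀),
      Etale (𝒴.p.map φ).left ∧ Surjective (𝒴.p.map φ).left)
    (hfin : ∀ c, IsFinite (𝔼.ε.app c).left)
    (jj : ∀ c : D, (R.cart hX hY).X.obj (ι.obj c) ⟶ 𝔼.E.obj c)
    (hjj : ∀ c, jj c ≫ 𝔼.ε.app c = (R.cart hX hY).π.app (ι.obj c))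
    (hn : ∀ ⦃d c : D⦄ (g : d ⟶ c), (R.cart hX hY).X.map (ι.map g) ≫ jj c = jj d ≫ 𝔼.E.map g)
    (hop : ∀ c, IsOpenImmersion (jj c).left) :
    ∃ (𝒴' : AlgSt.Cat S) (j : 𝒳 ⥤ᵇ 𝒴') (g : 𝒴' ⥤ᵇ 𝒴),
      Nonempty (BasedFunctor.comp j g ≅ f) ∧ AlgSt.IsOpenImm j ∧
        AlgSt.RepByAlgSpWith AlgSp.IsFiniteMor g := by
  refine ⟨K748.El.el (fm 𝔼), BasedFunctor.comp (R.toGs.{u + 1} hX hY jj hjj hn)
    (K748.El.elq (gs.{u + 1} jj hjj hn)), K748.El.elq (fm 𝔼), ⟨Iso.refl _⟩, ?_,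
    isFinite_elq hY 𝔼 hι hloc hfin⟩
  have h1 := isOpen_elq hY hι hloc jj hjj hn hop
  exact (K735.Rep.repByAlgSpWith_iff_of_sq _ (K748.El.elq (gs.{u + 1} jj hjj hn))
    (BasedFunctor.comp (R.toGs.{u + 1} hX hY jj hjj hn) (K748.El.elq (gs.{u + 1} jj hjj hn)))
    (R.toGs.{u + 1} hX hY jj hjj hn) (BasedFunctor.id _)
    (Adj.isEquivOver_toGs.{u + 1} R hX hY jj hjj hn) K735.Fib.isEquivOver_id (Iso.refl _)).1 h1

theorem main16824 (S : Scheme.{u})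
    [QuasiSeparatedSpace ↥S] (𝒳 𝒴 : AlgSt.Cat S)
    (h𝒳 : AlgSt.IsDM Scheme.etalePrecoverage 𝒳) (h𝒴 : AlgSt.IsDM Scheme.etalePrecoverage 𝒴)
    (hn𝒴 : AlgSt.SmoothLocally (fun T => IsLocallyNoetherian T) 𝒴 ∧ AlgSt.IsQuasiCompact 𝒴 ∧
      AlgSt.IsQuasiSeparatedOver 𝒴)
    (f : 𝒳 ⥤ᵇ 𝒴) (hsep : AlgSt.RepByAlgSpWith AlgSp.IsSeparatedMor f)
    (hqf : AlgSt.RepByAlgSpWith (AlgSp.LocP (@LocallyQuasiFinite ⊓ @LocallyOfFiniteType)) f)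
    (hqc : AlgSt.RepByAlgSpWith AlgSp.IsQuasiCompactMor f) :
    ∃ (𝒴' : AlgSt.Cat S) (j : 𝒳 ⥤ᵇ 𝒴') (g : 𝒴' ⥤ᵇ 𝒴),
      Nonempty (BasedFunctor.comp j g ≅ f) ∧ AlgSt.IsOpenImm j ∧
        AlgSt.RepByAlgSpWith AlgSp.IsFiniteMor g := by
  have hX := h𝒳.1.isStack.1
  have hY := h𝒴.1.isStack.1
  obtain ⟨u₀, hA, het, hsur⟩ := Charts.exists_object hY h𝒴 hn𝒴.2.1
  have hu := Charts.etCh_of_isEtaleMor hY het
  have hΔ : AlgSt.RepByAlgSpWith AlgSp.IsQuasiCompactMor (FibCat.diag (FibCat.toSelf 𝒴)) :=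
    K740.SpIso.repByAlgSpWith_imp hn𝒴.2.2 fun F U q hq => hq.1
  have hqu := Charts.qc_of_affine hY hΔ hA (yonF hY u₀ rfl)
  obtain ⟨r, s, t, hr, hs, ht, H⟩ := Charts.exists_pair hY hu hA hqu
  have hln : IsLocallyNoetherian (𝒴.p.obj u₀).left := hn𝒴.1 _ _ (K600.EtChart.smooth_of_etale het)
  obtain ⟨R, hR⟩ := Adj.exists_radj hY hsep hqf hqc
  let 𝔛 := R.cart hX hY
  have hDu : Charts.Dp 𝒴 u₀ u₀ := ⟨hA, 𝟙 u₀, by rw [𝒴.p.map_id]; infer_instance⟩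
  have hDr : Charts.Dp 𝒴 u₀ r := ⟨hr, s, hs⟩
  let ι := (Charts.Dp 𝒴 u₀).ι
  let u' : (Charts.Dp 𝒴 u₀).FullSubcategory := ⟨u₀, hDu⟩
  let r' : (Charts.Dp 𝒴 u₀).FullSubcategory := ⟨r, hDr⟩
  let s' : r' ⟶ u' := ObjectProperty.homMk s
  let t' : r' ⟶ u' := ObjectProperty.homMk t
  obtain ⟨E, ε, j, hjε, hE, hj, hop, hfin⟩ := SpecDiag.exists_diag (P := ι ⋙ 𝒴.p) (X := ι ⋙ 𝔛.X) (π := Functor.whiskerLeft ι 𝔛.π)
    (fun d c g => 𝔛.cart g.hom) (fun c => c.property.1) (fun d c g => Charts.Dp.etale hY hu d.property c.property g.hom)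
    u' (fun c => ⟨ObjectProperty.homMk c.property.2.choose⟩) hln (hR u₀).1 (hR u₀).2.1 (hR u₀).2.2.1 (hR u₀).2.2.2 s' t'
    (by
      intro d m₁ m₂
      obtain ⟨V, v, hv1, hv2, H₀⟩ := H d.obj m₁.hom m₂.hom
      obtain ⟨d', e, g, hd', hg, he⟩ := Charts.exists_affine_cover hY d.property v hv1 hv2
      obtain ⟨k, hk1, hk2⟩ := H₀ e g hg
      exact ⟨⟨d', hd'⟩, ObjectProperty.homMk e, ObjectProperty.homMk k, he, ObjectProperty.hom_ext _ hk1,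
        ObjectProperty.hom_ext _ hk2⟩)
    (by
      obtain ⟨r₂, π₁, π₂, h1, h2, h3, -⟩ := Charts.Dp.fib hY hu hDr hDr hDu t s
      exact ⟨⟨r₂, h1⟩, ObjectProperty.homMk π₁, ObjectProperty.homMk π₂, ObjectProperty.hom_ext _ h2, h3⟩)
  let 𝔼 : CartDiag ι 𝒴.p := ⟨E, ε, fun c c' g => hE g⟩
  let jj : ∀ c : (Charts.Dp 𝒴 u₀).FullSubcategory, (R.cart hX hY).X.obj (ι.obj c) ⟶ 𝔼.E.obj c := fun c => j.app c
  have hjj : ∀ c, jj c ≫ 𝔼.ε.app c = (R.cart hX hY).π.app (ι.obj c) := fun c => congrArg (fun q => q.app c) hjε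
  have hjn : ∀ ⦃d c : (Charts.Dp 𝒴 u₀).FullSubcategory⦄ (g : d ⟶ c), (R.cart hX hY).X.map (ι.map g) ≫ jj c = jj d ≫ 𝔼.E.map g :=
    fun d c g => j.naturality g
  have hι := Charts.locCof hY hu hA hqu
  have hloc := Charts.exists_local hY het hsur
  exact finish hX hY R 𝔼 hι (u₀ := u') hloc hfin jj hjj hjn hop

end K736.Zmt
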