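import Groth.Agent.AlgSt.K736.Zmt.Fam
import Groth.Agent.AlgSt.K748.El

/-!
# Sections of a cartesian diagram (helper736)

`𝔛` a cartesian functor over `p`, `jj : 𝔛 ⟶ 𝔼` a morphism of cartesian diagrams over a system of charts: the sheaf `gs` on
`el (fm 𝔼)` of the sections of `𝔛` with given image, and its local representability.
-/

set_option autoImplicit false

universe w v₃ u₃ v₂ u₂ v u

open CategoryTheory CategoryTheory.Limits Opposite K735.Fib K736.TopY K736.Fam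

namespace K736.SecX

section Cart

variable {C : Type u} [Category.{v} C] {𝒴 : Type u₂} [Category.{v₂} 𝒴]

/-- A cartesian functor over `p`. -/
structure Cart (p : 𝒴 ⥤ C) where
  X : 𝒴 ⥤ C
  π : X ⟶ p
  cart : ∀ ⦃d c : 𝒴⦄ (g : d ⟶ c), IsPullback (X.map g) (π.app d) (π.app c) (p.map g)

variable {p : 𝒴 ⥤ C} (𝔛 : Cart p)

/-- Sections over `z`. -/
@[ext] structure Sec (z : 𝒴) where
  s : p.obj z ⟶ 𝔛.X.obj z
  hs : s ≫ 𝔛.π.app z = 𝟙 _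

variable {𝔛}

/-- Restriction. -/
noncomputable def Sec.res {z z' : 𝒴} (a : z' ⟶ z) (t : Sec 𝔛 z) : Sec 𝔛 z' where
  s := (𝔛.cart a).lift (p.map a ≫ t.s) (𝟙 _) (by rw [Category.assoc, t.hs, Category.comp_id, Category.id_comp])
  hs := (𝔛.cart a).lift_snd _ _ _

theorem Sec.res_map {z z' : 𝒴} (a : z' ⟶ z) (t : Sec 𝔛 z) : (t.res a).s ≫ 𝔛.X.map a = p.map a ≫ t.s :=
  (𝔛.cart a).lift_fst _ _ _

theorem Sec.eq_res {z z' : 𝒴} {a : z' ⟶ z} {t : Sec 𝔛 z} {t' : Sec 𝔛 z'} (h : t'.s ≫ 𝔛.X.map a = p.map a ≫ t.s) :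
    t.res a = t' := by
  apply Sec.ext
  exact (𝔛.cart a).hom_ext ((t.res_map a).trans h.symm) ((t.res a).hs.trans t'.hs.symm)

theorem Sec.res_id {z : 𝒴} (t : Sec 𝔛 z) : t.res (𝟙 z) = t :=
  Sec.eq_res (by rw [p.map_id, 𝔛.X.map_id, Category.comp_id, Category.id_comp])

theorem Sec.res_res {z z' z'' : 𝒴} (b : z'' ⟶ z') (a : z' ⟶ z) (t : Sec 𝔛 z) : (t.res a).res b = t.res (b ≫ a) := by
  symm
  apply Sec.eq_res
  rw [𝔛.X.map_comp, ← Category.assoc, Sec.res_map, Category.assoc, Sec.res_map, p.map_comp, Category.assoc]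

variable {D : Type u₃} [Category.{v₃} D] {ι : D ⥤ 𝒴} {𝔼 : CartDiag ι p} (jj : ∀ c : D, 𝔛.X.obj (ι.obj c) ⟶ 𝔼.E.obj c)
  (hjj : ∀ c, jj c ≫ 𝔼.ε.app c = 𝔛.π.app (ι.obj c)) (hn : ∀ ⦃d c : D⦄ (g : d ⟶ c), 𝔛.X.map (ι.map g) ≫ jj c = jj d ≫ 𝔼.E.map g)

/-- The family attached to a section. -/
noncomputable def fam {z : 𝒴} (t : Sec 𝔛 z) : Fm 𝔼 z where
  σ z' a c m := (t.res a).s ≫ 𝔛.X.map m ≫ jj c
  fac z' a c m := by
    rw [Category.assoc, Category.assoc, hjj, 𝔛.π.naturality, ← Category.assoc, (t.res a).hs, Category.id_comp]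
  natz z' z'' b a c m := by
    rw [← Category.assoc, ← Sec.res_map, Sec.res_res, Category.assoc, ← Category.assoc (𝔛.X.map b), ← 𝔛.X.map_comp]
  natc z' a c c' g m := by
    rw [𝔛.X.map_comp, Category.assoc, hn, Category.assoc, Category.assoc]

theorem fam_res {z z' : 𝒴} (a : z' ⟶ z) (t : Sec 𝔛 z) : (fam jj hjj hn t).res a = fam jj hjj hn (t.res a) := by
  apply Fm.ext
  funext z'' b c m
  change (t.res (b ≫ a)).s ≫ _ = ((t.res a).res b).s ≫ _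
  rw [Sec.res_res]

theorem fam_one {z : 𝒴} (t : Sec 𝔛 z) {c : D} (m : z ⟶ ι.obj c) :
    (fam jj hjj hn t).σ (𝟙 z) m = t.s ≫ 𝔛.X.map m ≫ jj c := by
  change (t.res (𝟙 z)).s ≫ _ = _
  rw [Sec.res_id]

end Cart

section Gs

variable {C : Type u} [Category.{v} C] {𝒴 : BasedCategory.{v₂, u₂} C} {𝔛 : Cart 𝒴.p}
  {D : Type u₃} [Category.{v₃} D] {ι : D ⥤ 𝒴.obj} {𝔼 : CartDiag ι 𝒴.p}
  (jj : ∀ c : D, 𝔛.X.obj (ι.obj c) ⟶ 𝔼.E.obj c)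
  (hjj : ∀ c, jj c ≫ 𝔼.ε.app c = 𝔛.π.app (ι.obj c)) (hn : ∀ ⦃d c : D⦄ (g : d ⟶ c), 𝔛.X.map (ι.map g) ≫ jj c = jj d ≫ 𝔼.E.map g)

/-- The sheaf of the sections with given image. -/
noncomputable def gs : (K748.El.el (fm 𝔼)).objᵒᵖ ⥤ Type (max w v) where
  obj ζ := ULift.{w} {t : Sec 𝔛 ζ.unop.base // fam jj hjj hn t = ζ.unop.sec}
  map {ζ ζ'} φ := ↾fun t => ⟨⟨t.down.1.res φ.unop.hom, by
    rw [← fam_res, t.down.2]
    exact φ.unop.map_sec⟩⟩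
  map_id ζ := by
    refine ConcreteCategory.hom_ext _ _ fun t => ?_
    apply ULift.ext
    apply Subtype.ext
    exact Sec.res_id _
  map_comp φ ψ := by
    refine ConcreteCategory.hom_ext _ _ fun t => ?_
    apply ULift.ext
    apply Subtype.ext
    exact (Sec.res_res _ _ _).symm

theorem gs_map {ζ ζ' : (K748.El.el (fm 𝔼)).obj} (φ : ζ' ⟶ ζ) (t : (gs.{w} jj hjj hn).obj (op ζ)) :
    ((gs.{w} jj hjj hn).map φ.op t).down.1 = t.down.1.res φ.hom := rfl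

theorem gs_ext {ζ : (K748.El.el (fm 𝔼)).obj} {t t' : (gs.{w} jj hjj hn).obj (op ζ)} (h : t.down.1 = t'.down.1) : t = t' :=
  ULift.ext _ _ (Subtype.ext h)

variable (h : FibCat.IsFibGrpd 𝒴.p) {J : GrothendieckTopology C} (hJ : ∀ W : C, Presieve.IsSheaf J (yoneda.obj W))

include hJ in
theorem isSheaf_gs : Presieve.IsSheaf (topY (K748.El.isFibGrpd_el (fm 𝔼) h) J) (gs.{w} jj hjj hn) := by
  intro ζ R hR x hx
  have hx' := (Presieve.compatible_iff_sieveCompatible x).1 hx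
  have he := K748.El.isFibGrpd_el (fm 𝔼) h
  have key : ∀ {ζ' ζ'' : (K748.El.el (fm 𝔼)).obj} (φ : ζ' ⟶ ζ) (hφ : R φ) (ψ : ζ'' ⟶ ζ'),
      (x (ψ ≫ φ) (R.downward_closed hφ ψ)).down.1 = (x φ hφ).down.1.res ψ.hom := by
    intro ζ' ζ'' φ hφ ψ
    have := hx' φ ψ hφ
    exact congrArg (fun t => t.down.1) this
  obtain ⟨y, hy⟩ := hom_glue (p := (K748.El.el (fm 𝔼)).p) he hJ hR (W := 𝔛.X.obj ζ.base)
    (fun ζ' φ hφ => (x φ hφ).down.1.s ≫ 𝔛.X.map φ.hom) (by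
      intro ζ' ζ'' φ hφ ψ
      change 𝒴.p.map ψ.hom ≫ (x φ hφ).down.1.s ≫ 𝔛.X.map φ.hom = (x (ψ ≫ φ) _).down.1.s ≫ 𝔛.X.map (ψ.hom ≫ φ.hom)
      rw [key φ hφ ψ, 𝔛.X.map_comp, ← Category.assoc, ← Sec.res_map, Category.assoc])
  have hy' : ∀ {ζ' : (K748.El.el (fm 𝔼)).obj} (φ : ζ' ⟶ ζ) (hφ : R φ),
      𝒴.p.map φ.hom ≫ y = (x φ hφ).down.1.s ≫ 𝔛.X.map φ.hom := fun φ hφ => hy φ hφ
  have hy1 : y ≫ 𝔛.π.app ζ.base = 𝟙 _ := by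
    refine hom_ext_of_mem (p := (K748.El.el (fm 𝔼)).p) he hJ hR (z := ζ) fun ζ' φ hφ => ?_
    change 𝒴.p.map φ.hom ≫ y ≫ 𝔛.π.app ζ.base = 𝒴.p.map φ.hom ≫ 𝟙 _
    rw [← Category.assoc, hy' φ hφ, Category.assoc, 𝔛.π.naturality, ← Category.assoc, (x φ hφ).down.1.hs,
      Category.id_comp, Category.comp_id]
  let t : Sec 𝔛 ζ.base := ⟨y, hy1⟩
  have ht : ∀ {ζ' : (K748.El.el (fm 𝔼)).obj} (φ : ζ' ⟶ ζ) (hφ : R φ), t.res φ.hom = (x φ hφ).down.1 :=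
    fun φ hφ => Sec.eq_res (hy' φ hφ).symm
  have hf : fam jj hjj hn t = ζ.sec := by
    apply Fm.ext
    funext z a c m
    let ζ₁ : (K748.El.el (fm 𝔼)).obj := ⟨z, Fm.res a ζ.sec⟩
    let a₁ : ζ₁ ⟶ ζ := ⟨a, rfl⟩
    refine hom_ext_of_mem (p := (K748.El.el (fm 𝔼)).p) he hJ ((topY he J).pullback_stable a₁ hR) (z := ζ₁) fun ζ' φ hφ => ?_
    change 𝒴.p.map φ.hom ≫ (fam jj hjj hn t).σ a m = 𝒴.p.map φ.hom ≫ Fm.σ ζ.sec a m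
    rw [(fam jj hjj hn t).natz, Fm.natz]
    have h1 := (fam_res jj hjj hn (φ ≫ a₁).hom t)
    rw [ht (φ ≫ a₁) hφ, (x (φ ≫ a₁) hφ).down.2] at h1
    have h2 : ζ'.sec = Fm.res (φ ≫ a₁).hom ζ.sec := (φ ≫ a₁).map_sec.symm
    have h3 : Fm.res (φ ≫ a₁).hom (fam jj hjj hn t) = Fm.res (φ ≫ a₁).hom ζ.sec := h1.trans h2
    have h4 := congrArg (fun q : Fm 𝔼 ζ'.base => q.σ (𝟙 _) (φ.hom ≫ m)) h3
    have h5 : 𝟙 _ ≫ (φ ≫ a₁).hom = φ.hom ≫ a := Category.id_comp _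
    change (fam jj hjj hn t).σ (𝟙 _ ≫ (φ ≫ a₁).hom) _ = Fm.σ ζ.sec (𝟙 _ ≫ (φ ≫ a₁).hom) _ at h4
    rw [h5] at h4
    exact h4
  refine ⟨⟨⟨t, hf⟩⟩, fun ζ' φ hφ => gs_ext _ _ _ (ht φ hφ), fun t' ht' => gs_ext _ _ _ ?_⟩
  apply Sec.ext
  refine hom_ext_of_mem (p := (K748.El.el (fm 𝔼)).p) he hJ hR (z := ζ) fun ζ' φ hφ => ?_
  change 𝒴.p.map φ.hom ≫ t'.down.1.s = 𝒴.p.map φ.hom ≫ y
  rw [hy' φ hφ, ← Sec.res_map, ← gs_map, ht' φ hφ]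

include hJ in
/-- Local representability. -/
theorem exists_univ (hι : LocCof ι (topY h J)) {ζ : (K748.El.el (fm 𝔼)).obj} {c₀ : D} (m₀ : ζ.base ⟶ ι.obj c₀)
    {W : C} (q : W ⟶ 𝔛.X.obj (ι.obj c₀)) (w₀ : W ⟶ 𝒴.p.obj ζ.base)
    (hq : IsPullback q w₀ (jj c₀) (Fm.σ ζ.sec (𝟙 _) m₀)) :
    ∃ (ζW : (K748.El.el (fm 𝔼)).obj) (w : ζW ⟶ ζ) (e : 𝒴.p.obj ζW.base = W) (t : (gs.{w} jj hjj hn).obj (op ζW)),
      𝒴.p.map w.hom = eqToHom e ≫ w₀ ∧ ∀ ⦃ζ' : (K748.El.el (fm 𝔼)).obj⦄ (φ : ζ' ⟶ ζ) (s : (gs.{w} jj hjj hn).obj (op ζ')),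
        ∃! k : ζ' ⟶ ζW, k ≫ w = φ ∧ (gs.{w} jj hjj hn).map k.op t = s := by
  obtain ⟨zW, w, e, hw⟩ := exists_lift h w₀
  subst e
  rw [eqToHom_refl, Category.id_comp] at hw
  subst hw
  let ζW : (K748.El.el (fm 𝔼)).obj := ⟨zW, Fm.res w ζ.sec⟩
  have hσ : 𝒴.p.map w ≫ Fm.σ ζ.sec (𝟙 _) m₀ ≫ 𝔼.ε.app c₀ = 𝒴.p.map (w ≫ m₀) := by
    rw [Fm.fac, 𝒴.p.map_comp]
  let t : Sec 𝔛 zW := ⟨(𝔛.cart (w ≫ m₀)).lift q (𝟙 _) (by
    rw [Category.id_comp, ← hσ, ← hjj, ← Category.assoc, hq.w, Category.assoc]), (𝔛.cart (w ≫ m₀)).lift_snd _ _ _⟩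
  have ht : t.s ≫ 𝔛.X.map (w ≫ m₀) = q := (𝔛.cart (w ≫ m₀)).lift_fst _ _ _
  have hf : fam jj hjj hn t = Fm.res w ζ.sec := by
    refine ev_inj h hJ hι (w ≫ m₀) _ _ ?_
    rw [fam_one, ← Category.assoc, ht, hq.w]
    change _ = Fm.σ ζ.sec (𝟙 _ ≫ w) (w ≫ m₀)
    rw [Fm.natz, Category.comp_id, Category.id_comp]
  refine ⟨ζW, ⟨w, rfl⟩, rfl, ⟨⟨t, hf⟩⟩, by rw [eqToHom_refl, Category.id_comp], fun ζ' φ s => ?_⟩
  -- the value at `m₀` determines the section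
  have hs : (s.down.1.s ≫ 𝔛.X.map (φ.hom ≫ m₀)) ≫ jj c₀ = 𝒴.p.map φ.hom ≫ Fm.σ ζ.sec (𝟙 _) m₀ := by
    have h1 := s.down.2
    have h2 : ζ'.sec = Fm.res φ.hom ζ.sec := φ.map_sec.symm
    have h3 := congrArg (fun q : Fm 𝔼 ζ'.base => q.σ (𝟙 _) (φ.hom ≫ m₀)) (h1.trans h2)
    dsimp only at h3
    rw [fam_one] at h3
    rw [Category.assoc, h3, Fm.natz, Fm.res_σ, Category.id_comp, Category.comp_id]
  obtain ⟨k, hk, hkw⟩ := exists_hom h w φ.hom (hq.lift _ _ hs) (hq.lift_snd _ _ _)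
  have hkq : 𝒴.p.map k ≫ q = s.down.1.s ≫ 𝔛.X.map (φ.hom ≫ m₀) := by rw [hk, hq.lift_fst]
  refine ⟨⟨k, ?_⟩, ⟨Stk.EltObj.hom_ext hkw, ?_⟩, ?_⟩
  · change Fm.res k (Fm.res w ζ.sec) = ζ'.sec
    have h2 : Fm.res φ.hom ζ.sec = ζ'.sec := φ.map_sec
    rw [← h2, ← hkw]
    apply Fm.ext
    funext z a c m
    simp only [Fm.res_σ, Category.assoc]
  · refine gs_ext _ _ _ (Sec.eq_res ?_)
    change s.down.1.s ≫ 𝔛.X.map k = 𝒴.p.map k ≫ t.s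
    refine (𝔛.cart (w ≫ m₀)).hom_ext ?_ ?_
    · rw [Category.assoc, Category.assoc, ht, hkq, ← 𝔛.X.map_comp, ← Category.assoc k, hkw]
    · rw [Category.assoc, Category.assoc, t.hs, 𝔛.π.naturality, ← Category.assoc, s.down.1.hs, Category.id_comp,
        Category.comp_id]
  · rintro k' ⟨hk', hs'⟩
    apply Stk.EltObj.hom_ext
    have h1 : k'.hom ≫ w = φ.hom := congrArg (fun t => t.hom) hk'
    refine hom_ext' h w ?_ (h1.trans hkw.symm)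
    have h2 : t.res k'.hom = s.down.1 := congrArg (fun t => t.down.1) hs'
    refine hq.hom_ext ?_ ?_
    · rw [hkq, ← h2, ← ht, ← Category.assoc, ← Sec.res_map, Category.assoc, ← 𝔛.X.map_comp, ← Category.assoc k'.hom, h1]
    · rw [← 𝒴.p.map_comp, ← 𝒴.p.map_comp, h1, hkw]

end Gs

end K736.SecX
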