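import Groth.Agent.AlgSt.K735.Fib
import Mathlib.CategoryTheory.Sites.Sieves
import Mathlib.CategoryTheory.Sites.SheafOfTypes

/-!
# The topology on the total category of a category fibred in groupoids (helper736)

* `K736.TopY.topY h J`: the topology on the total category induced by a topology `J` on the base.
* `ext_of_mem`, `exists_glue`: the pull back of a `J`-sheaf of types is a sheaf.
-/

set_option autoImplicit false

universe w v₂ u₂ v u

open CategoryTheory CategoryTheory.Limits Opposite K735.Fib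

namespace K736.TopY

variable {C : Type u} [Category.{v} C] {𝒳 : Type u₂} [Category.{v₂} 𝒳] {p : 𝒳 ⥤ C}

/-- The topology induced on the total category. -/
def topY (h : FibCat.IsFibGrpd p) (J : GrothendieckTopology C) : GrothendieckTopology 𝒳 where
  sieves z := {R | ∃ T ∈ J (p.obj z), Sieve.functorPullback p T ≤ R}
  top_mem' z := ⟨⊤, J.top_mem _, le_top⟩
  pullback_stable' z w R g := by
    rintro ⟨T, hT, hTR⟩
    refine ⟨T.pullback (p.map g), J.pullback_stable _ hT, ?_⟩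
    intro v φ hφ
    refine hTR _ ?_
    change T (p.map (φ ≫ g))
    rw [p.map_comp]
    exact hφ
  transitive' z R := by
    rintro ⟨T, hT, hTR⟩ R₂ hR₂
    refine ⟨R₂.functorPushforward p, ?_, ?_⟩
    · refine J.transitive hT _ ?_
      intro V v hv
      obtain ⟨z', φ, e, hφ⟩ := exists_lift h v
      subst e
      rw [eqToHom_refl, Category.id_comp] at hφ
      subst hφ
      obtain ⟨T₃, hT₃, h₃⟩ := hR₂ (hTR _ hv)
      refine J.superset_covering ?_ hT₃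
      intro W w hw
      obtain ⟨z'', ψ, e, hψ⟩ := exists_lift h w
      subst e
      rw [eqToHom_refl, Category.id_comp] at hψ
      subst hψ
      refine ⟨z'', ψ ≫ φ, 𝟙 _, h₃ _ hw, ?_⟩
      rw [Category.id_comp, p.map_comp]
    · rintro z' φ ⟨z₁, φ₁, g, h₁, e⟩
      obtain ⟨χ, -, rfl⟩ := exists_hom h φ₁ φ g e.symm
      exact R₂.downward_closed h₁ χ

theorem mem_topY {h : FibCat.IsFibGrpd p} {J : GrothendieckTopology C} {z : 𝒳} {R : Sieve z} :
    R ∈ topY h J z ↔ ∃ T ∈ J (p.obj z), Sieve.functorPullback p T ≤ R := Iff.rfl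

/-- A sieve on the total category is covering as soon as the images of its arrows are. -/
theorem mem_of_pushforward {h : FibCat.IsFibGrpd p} {J : GrothendieckTopology C} {z : 𝒳} {R : Sieve z}
    (hR : R.functorPushforward p ∈ J (p.obj z)) : R ∈ topY h J z := by
  refine ⟨_, hR, ?_⟩
  rintro z' φ ⟨z₁, φ₁, g, h₁, e⟩
  obtain ⟨χ, -, rfl⟩ := exists_hom h φ₁ φ g e.symm
  exact R.downward_closed h₁ χ

theorem pushforward_mem {h : FibCat.IsFibGrpd p} {J : GrothendieckTopology C} {z : 𝒳} {R : Sieve z}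
    (hR : R ∈ topY h J z) : R.functorPushforward p ∈ J (p.obj z) := by
  obtain ⟨T, hT, hTR⟩ := hR
  refine J.superset_covering ?_ hT
  intro W w hw
  obtain ⟨z'', ψ, e, hψ⟩ := exists_lift h w
  subst e
  rw [eqToHom_refl, Category.id_comp] at hψ
  subst hψ
  exact ⟨z'', ψ, 𝟙 _, hTR _ hw, (Category.id_comp _).symm⟩

variable (h : FibCat.IsFibGrpd p) {J : GrothendieckTopology C} (F : Cᵒᵖ ⥤ Type w) (hF : Presieve.IsSheaf J F)

include hF in
/-- Two sections which agree locally are equal. -/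
theorem ext_of_mem {z : 𝒳} {R : Sieve z} (hR : R ∈ topY h J z) (x x' : F.obj (op (p.obj z)))
    (hx : ∀ ⦃z' : 𝒳⦄ (φ : z' ⟶ z), R φ → F.map (p.map φ).op x = F.map (p.map φ).op x') : x = x' := by
  obtain ⟨T, hT, hTR⟩ := hR
  refine (hF T hT).isSeparatedFor.ext ?_
  intro V v hv
  obtain ⟨z', φ, e, hφ⟩ := exists_lift h v
  subst e
  rw [eqToHom_refl, Category.id_comp] at hφ
  subst hφ
  exact hx φ (hTR _ hv)

include hF in
/-- Glueing of sections. -/
theorem exists_glue {z : 𝒳} {R : Sieve z} (hR : R ∈ topY h J z)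
    (x : ∀ ⦃z' : 𝒳⦄ (φ : z' ⟶ z), R φ → F.obj (op (p.obj z')))
    (hx : ∀ ⦃z' z'' : 𝒳⦄ (φ : z' ⟶ z) (hφ : R φ) (ψ : z'' ⟶ z'),
      F.map (p.map ψ).op (x φ hφ) = x (ψ ≫ φ) (R.downward_closed hφ ψ)) :
    ∃ y : F.obj (op (p.obj z)), ∀ ⦃z' : 𝒳⦄ (φ : z' ⟶ z) (hφ : R φ), F.map (p.map φ).op y = x φ hφ := by
  obtain ⟨T, hT, hTR⟩ := hR
  -- comparison of the values
  have key : ∀ ⦃z₁ z₂ : 𝒳⦄ (φ₁ : z₁ ⟶ z) (φ₂ : z₂ ⟶ z) (h₁ : R φ₁) (h₂ : R φ₂) (g : p.obj z₁ ⟶ p.obj z₂),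
      g ≫ p.map φ₂ = p.map φ₁ → x φ₁ h₁ = F.map g.op (x φ₂ h₂) := by
    intro z₁ z₂ φ₁ φ₂ h₁ h₂ g e
    obtain ⟨χ, rfl, rfl⟩ := exists_hom h φ₂ φ₁ g e
    exact (hx φ₂ h₂ χ).symm
  choose zl φl el hl using fun (V : C) (v : V ⟶ p.obj z) => exists_lift h v
  have hR' : ∀ (V : C) (v : V ⟶ p.obj z), T v → R (φl V v) := by
    intro V v hv
    refine hTR _ ?_
    change T (p.map (φl V v))
    rw [hl]
    exact T.downward_closed hv _
  let y : Presieve.FamilyOfElements F T.arrows := fun V v hv => F.map (eqToHom (el V v).symm).op (x (φl V v) (hR' V v hv))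
  have hy : y.SieveCompatible := by
    intro V W v w hv
    change F.map (eqToHom (el W (w ≫ v)).symm).op (x (φl W (w ≫ v)) _) =
      F.map w.op (F.map (eqToHom (el V v).symm).op (x (φl V v) _))
    rw [key (φl W (w ≫ v)) (φl V v) (hR' _ _ (T.downward_closed hv w)) (hR' _ _ hv)
      (eqToHom (el W (w ≫ v)) ≫ w ≫ eqToHom (el V v).symm) ?_]
    · rw [← Functor.map_comp_apply, ← Functor.map_comp_apply, ← op_comp, ← op_comp]
      simp
    · rw [hl, hl]
      simp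
  have hcomp : y.Compatible := (Presieve.compatible_iff_sieveCompatible y).2 hy
  obtain ⟨s, hs, -⟩ := hF T hT y hcomp
  refine ⟨s, fun z' φ hφ => ?_⟩
  refine (hF _ (J.pullback_stable (p.map φ) hT)).isSeparatedFor.ext ?_
  intro V v hv
  rw [← Functor.map_comp_apply, ← op_comp, hs (v ≫ p.map φ) hv]
  change F.map (eqToHom (el V (v ≫ p.map φ)).symm).op (x (φl V (v ≫ p.map φ)) _) = _
  rw [key (φl V (v ≫ p.map φ)) φ (hR' _ _ hv) hφ (eqToHom (el V (v ≫ p.map φ)) ≫ v) ?_]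
  · rw [← Functor.map_comp_apply, ← op_comp]
    simp
  · rw [hl]
    simp

variable (hJ : ∀ W : C, Presieve.IsSheaf J (yoneda.obj W))

include hJ in
theorem hom_ext_of_mem {z : 𝒳} {R : Sieve z} (hR : R ∈ topY h J z) {W : C} {x x' : p.obj z ⟶ W}
    (hx : ∀ ⦃z' : 𝒳⦄ (φ : z' ⟶ z), R φ → p.map φ ≫ x = p.map φ ≫ x') : x = x' :=
  ext_of_mem h (yoneda.obj W) (hJ W) hR x x' hx

include hJ in
theorem hom_glue {z : 𝒳} {R : Sieve z} (hR : R ∈ topY h J z) {W : C}
    (x : ∀ ⦃z' : 𝒳⦄ (φ : z' ⟶ z), R φ → (p.obj z' ⟶ W))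
    (hx : ∀ ⦃z' z'' : 𝒳⦄ (φ : z' ⟶ z) (hφ : R φ) (ψ : z'' ⟶ z'),
      p.map ψ ≫ x φ hφ = x (ψ ≫ φ) (R.downward_closed hφ ψ)) :
    ∃ y : p.obj z ⟶ W, ∀ ⦃z' : 𝒳⦄ (φ : z' ⟶ z) (hφ : R φ), p.map φ ≫ y = x φ hφ :=
  exists_glue h (yoneda.obj W) (hJ W) hR x hx

end K736.TopY
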