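import Groth.Agent.AlgSt.K736.Zmt.Span
import Groth.Agent.AlgSt.K736.Zmt.TopY
import Groth.Agent.AlgSt.K747.Top
import Groth.Agent.AlgSp.K629.Fppf

/-!
# Spans between two objects of a stack (helper736)
-/

set_option autoImplicit false
set_option backward.isDefEq.respectTransparency false
set_option backward.isDefEq.respectTransparency.types false

universe w v₃ u₃ v₂ u₂ v u

open CategoryTheory CategoryTheory.Limits AlgebraicGeometry Opposite K735.Fib K735.Fp AlgSp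

namespace K736.Span

variable {S : Scheme.{u}} {𝒴 : BasedCategory.{v₃, u₃} (Over S)}

/-- The sheaf `F ⟶ h_(p c)` classifies the spans `c ⟵ z ⟶ c'`. -/
structure SpanRep2 (c c' : 𝒴.obj) (F : Sp S) (π : F ⟶ (yon S).obj (𝒴.p.obj c)) where
  sec : ∀ (z : 𝒴.obj) (_ : z ⟶ c) (_ : z ⟶ c'), F.obj.obj (op (𝒴.p.obj z))
  map : ∀ {z z' : 𝒴.obj} (k : z ⟶ z') (a' : z' ⟶ c) (m' : z' ⟶ c') (a : z ⟶ c) (m : z ⟶ c') (_ : k ≫ a' = a)
    (_ : k ≫ m' = m), F.obj.map (𝒴.p.map k).op (sec z' a' m') = sec z a m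
  full : ∀ {z z' : 𝒴.obj} (a : z ⟶ c) (m : z ⟶ c') (a' : z' ⟶ c) (m' : z' ⟶ c') (g : 𝒴.p.obj z ⟶ 𝒴.p.obj z'),
    F.obj.map g.op (sec z' a' m') = sec z a m → ∃ k : z ⟶ z', 𝒴.p.map k = g ∧ k ≫ a' = a ∧ k ≫ m' = m
  surj : ∀ {T : Over S} (s : F.obj.obj (op T)), ∃ (z : 𝒴.obj) (a : z ⟶ c) (m : z ⟶ c') (e : T = 𝒴.p.obj z),
    F.obj.map (eqToHom e).op (sec z a m) = s
  proj : ∀ (z : 𝒴.obj) (a : z ⟶ c) (m : z ⟶ c'), π.hom.app _ (sec z a m) = ⟨𝒴.p.map a⟩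

theorem map_map_of {F : Sp S} {A B D : Over S} (f : A ⟶ B) (g : B ⟶ D) (h : A ⟶ D) (e : f ≫ g = h)
    (s : F.obj.obj (op D)) : F.obj.map f.op (F.obj.map g.op s) = F.obj.map h.op s := by
  subst e
  rw [op_comp, Functor.map_comp_apply]

theorem nonempty_spanRep2 (h𝒴 : FibCat.IsFibGrpd 𝒴.p) {c c' : 𝒴.obj} {F : Sp S} {π : F ⟶ (yon S).obj (𝒴.p.obj c)}
    (R : SpanRep (yonF h𝒴 c' rfl) c F π) : Nonempty (SpanRep2 c c' F π) := by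
  have e₀ : ∀ {z : 𝒴.obj} (m : z ⟶ c'), 𝒴.p.obj z = 𝒴.p.obj ((yonF h𝒴 c' rfl).obj (Over.mk (𝒴.p.map m))) := fun m =>
    ((yonF h𝒴 c' rfl).w_obj (Over.mk (𝒴.p.map m))).symm
  have hth : ∀ {z : 𝒴.obj} (m : z ⟶ c'), 𝒴.p.map (theta h𝒴 c' m) = eqToHom (e₀ m).symm := fun m =>
    (vert_theta h𝒴 c' m).map_eq
  refine ⟨{
    sec := fun z a m => F.obj.map (eqToHom (e₀ m)).op (R.sec (Over.mk (𝒴.p.map m)) (theta h𝒴 c' m ≫ a))
    map := ?_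
    full := ?_
    surj := ?_
    proj := ?_ }⟩
  · rintro z z' k a' m' _ m rfl hm
    have w : 𝒴.p.map k ≫ 𝒴.p.map m' = 𝒴.p.map m := by rw [← 𝒴.p.map_comp, hm]
    let k₀ : (Over.mk (𝒴.p.map m) : (FibCat.overCat (𝒴.p.obj c')).obj) ⟶ Over.mk (𝒴.p.map m') := Over.homMk (𝒴.p.map k) w
    have h1 : (yonF h𝒴 c' rfl).map k₀ ≫ theta h𝒴 c' m' = theta h𝒴 c' m ≫ k := theta_nat h𝒴 c' k m' m hm k₀ rfl
    have h2 := R.map k₀ (theta h𝒴 c' m' ≫ a') (theta h𝒴 c' m ≫ k ≫ a') (by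
      rw [← Category.assoc, h1, Category.assoc])
    rw [← h2, map_map_of _ _ (𝒴.p.map k ≫ eqToHom (e₀ m')) rfl]
    symm
    apply map_map_of
    rw [map_map]
    change eqToHom _ ≫ eqToHom _ ≫ 𝒴.p.map k ≫ eqToHom _ = _
    simp
  · intro z z' a m a' m' g hg
    have h3 : F.obj.map (eqToHom (e₀ m).symm ≫ g ≫ eqToHom (e₀ m')).op
        (R.sec (Over.mk (𝒴.p.map m')) (theta h𝒴 c' m' ≫ a')) = R.sec (Over.mk (𝒴.p.map m)) (theta h𝒴 c' m ≫ a) := by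
      rw [← map_map_of (eqToHom (e₀ m).symm) (g ≫ eqToHom (e₀ m')) _ rfl, ← map_map_of g _ _ rfl, hg,
        map_map_of _ _ (𝟙 _) (by simp), op_id, Functor.map_id_apply]
    obtain ⟨k₀, hk₀, hk₁⟩ := R.full (theta h𝒴 c' m ≫ a) (theta h𝒴 c' m' ≫ a') _ h3
    have := isIso_theta h𝒴 c' m
    refine ⟨inv (theta h𝒴 c' m) ≫ (yonF h𝒴 c' rfl).map k₀ ≫ theta h𝒴 c' m', ?_, ?_, ?_⟩
    · rw [𝒴.p.map_comp, 𝒴.p.map_comp, hk₀, hth, Functor.map_inv, IsIso.inv_comp_eq, hth]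
      simp
    · rw [Category.assoc, Category.assoc, hk₁, IsIso.inv_hom_id_assoc]
    · rw [Category.assoc, Category.assoc, theta_comp, IsIso.inv_comp_eq, theta_comp]
      exact map_toC h𝒴 c' k₀
  · intro T s
    obtain ⟨t, a, e, hs⟩ := R.surj s
    let m : (yonF h𝒴 c' rfl).obj t ⟶ c' := toC h𝒴 c' t
    have hm : 𝒴.p.map m = eqToHom ((yonF h𝒴 c' rfl).w_obj t) ≫ t.hom := p_toC h𝒴 c' t
    have e₁ : 𝒴.p.obj ((yonF h𝒴 c' rfl).obj t) = t.left := (yonF h𝒴 c' rfl).w_obj t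
    let k₀ : (Over.mk (𝒴.p.map m) : (FibCat.overCat (𝒴.p.obj c')).obj) ⟶ t := Over.homMk (eqToHom e₁) (by
      exact hm.symm)
    have h1 : (yonF h𝒴 c' rfl).map k₀ = theta h𝒴 c' m := by
      refine hom_ext' h𝒴 (toC h𝒴 c' t) ?_ ((map_toC h𝒴 c' k₀).trans (theta_comp h𝒴 c' m).symm)
      rw [map_map, hth]
      change eqToHom _ ≫ eqToHom e₁ ≫ eqToHom _ = _
      rw [eqToHom_trans, eqToHom_trans]
    have h2 := R.map k₀ a (theta h𝒴 c' m ≫ a) (by rw [h1])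
    refine ⟨(yonF h𝒴 c' rfl).obj t, a, m, e, ?_⟩
    dsimp only
    rw [← h2, h1, hth, map_map_of _ _ (𝟙 _) (by simp), op_id, Functor.map_id_apply, hs]
  · intro z a m
    have h1 := R.proj (Over.mk (𝒴.p.map m)) (theta h𝒴 c' m ≫ a)
    refine (NatTrans.naturality_apply π.hom _ _).trans ?_
    rw [h1]
    refine congrArg ULift.up ?_
    change eqToHom (e₀ m) ≫ 𝒴.p.map (theta h𝒴 c' m ≫ a) = _
    rw [𝒴.p.map_comp, hth]
    simp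

theorem exists_spanRep2 (h𝒴 : FibCat.IsFibGrpd 𝒴.p) {P : MorphismProperty (Sp S)} (c c' : 𝒴.obj)
    (hc' : AlgSt.RepByAlgSpWith P (yonF h𝒴 c' rfl)) :
    ∃ (F : Sp S) (π : F ⟶ (yon S).obj (𝒴.p.obj c)), IsAlgSpace F ∧ P π ∧ Nonempty (SpanRep2 c c' F π) := by
  obtain ⟨F, π, h1, h2, ⟨R⟩⟩ := exists_spanRep h𝒴 hc' c
  exact ⟨F, π, h1, h2, nonempty_spanRep2 h𝒴 R⟩

end K736.Span
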