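import Groth.Agent.AlgSt.K736.Zmt.Alg

/-!
# Stable subalgebras (helper736)

`A ⟶ M` a cartesian diagram of rings on a category of charts `D` with smooth transition maps, `s t : r ⟶ u` a chart of the
groupoid of `u`: for a stable subgroup `N` of `M u`, the subgroup `F = s_* (t^* N)` is stable, i.e. has the same
pullback along any two arrows `d ⟶ u`.
-/

set_option autoImplicit false
set_option backward.isDefEq.respectTransparency false
set_option linter.style.haveILetI false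

universe v₁ u₁ u

open CategoryTheory CategoryTheory.Limits Opposite

namespace K736.Sub

open K736.Alg

/-- Elements of the pushout. -/
theorem push_ind {R R₁ R₂ R' : CommRingCat.{u}} {f : R ⟶ R₁} {g : R ⟶ R₂} {inl : R₁ ⟶ R'} {inr : R₂ ⟶ R'}
    (h : IsPushout f g inl inr) {C : R' → Prop} (hC : ∀ a b, C (inl a * inr b)) (hadd : ∀ x y, C x → C y → C (x + y))
    (x : R') : C x := by
  letI := f.hom.toAlgebra
  letI := g.hom.toAlgebra
  obtain ⟨e, he⟩ := K600.FlatMem.exists_equiv h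
  obtain ⟨z, rfl⟩ := e.surjective x
  induction z with
  | zero =>
    have := hC 0 0
    rw [map_zero, map_zero, zero_mul] at this
    rw [map_zero]
    exact this
  | add s t hs ht => rw [map_add]; exact hadd _ _ hs ht
  | tmul s t => rw [he]; exact hC _ _

theorem sp_push {R R₁ R₂ R' : CommRingCat.{u}} {f : R ⟶ R₁} {g : R ⟶ R₂} {inl : R₁ ⟶ R'} {inr : R₂ ⟶ R'}
    (h : IsPushout f g inl inr) {P T : CommRingCat.{u}} (p : R₂ ⟶ P) (i : R' ⟶ T) (j : P ⟶ T) (hp : p ≫ j = inr ≫ i)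
    {N : AddSubgroup P} (hN : IsSub p N) : sp i.hom j.hom N ≤ sp (inl ≫ i).hom j.hom N := by
  refine sp_le fun e n hn => ?_
  refine push_ind h (C := fun e => i.hom e * j.hom n ∈ sp (inl ≫ i).hom j.hom N) (fun a b => ?_) (fun x y hx hy => ?_) e
  · have h1 : i.hom (inr.hom b) = j.hom (p.hom b) := congr($hp.symm b)
    have h2 : i.hom (inl a * inr b) * j.hom n = (inl ≫ i).hom a * j.hom (p.hom b * n) := by
      rw [map_mul, map_mul, ← h1, mul_assoc]
      rfl
    rw [h2]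
    exact mul_mem_sp _ (hN b n hn)
  · rw [map_add, add_mul]
    exact add_mem hx hy

/-- A cartesian diagram of rings with smooth transition maps. -/
structure Sys (D : Type u₁) [Category.{v₁} D] where
  A : Dᵒᵖ ⥤ CommRingCat.{u}
  M : Dᵒᵖ ⥤ CommRingCat.{u}
  ρ : A ⟶ M
  po : ∀ ⦃c d : D⦄ (g : d ⟶ c), IsPushout (A.map g.op) (ρ.app (op c)) (ρ.app (op d)) (M.map g.op)
  sm : ∀ ⦃c d : D⦄ (g : d ⟶ c), (A.map g.op).hom.Smooth

variable {D : Type u₁} [Category.{v₁} D] (X : Sys.{v₁, u₁, u} D)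

/-- the pullback of a submodule -/
def Sys.pb {c d : D} (g : d ⟶ c) (N : AddSubgroup (X.M.obj (op c))) : AddSubgroup (X.M.obj (op d)) :=
  sp (X.ρ.app (op d)).hom (X.M.map g.op).hom N

variable {X}

theorem Sys.flat {c d : D} (g : d ⟶ c) : (X.A.map g.op).hom.Flat := (X.sm g).flat

theorem Sys.isSub_pb {c d : D} (g : d ⟶ c) (N : AddSubgroup (X.M.obj (op c))) : IsSub (X.ρ.app (op d)) (X.pb g N) :=
  isSub_sp _ _

theorem Sys.comm {c d : D} (g : d ⟶ c) :
    (X.M.map g.op).hom.comp (X.ρ.app (op c)).hom = (X.ρ.app (op d)).hom.comp (X.A.map g.op).hom := by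
  have := X.ρ.naturality g.op
  rw [← CommRingCat.hom_comp, ← CommRingCat.hom_comp, this]

theorem Sys.pb_comp {c d e : D} (h : e ⟶ d) (g : d ⟶ c) (N : AddSubgroup (X.M.obj (op c))) :
    X.pb h (X.pb g N) = X.pb (h ≫ g) N :=
  sp_sp (X.comm h) (by rw [← CommRingCat.hom_comp, ← Functor.map_comp, ← op_comp])

theorem Sys.pb_mono {c d : D} (g : d ⟶ c) {N N' : AddSubgroup (X.M.obj (op c))} (h : N ≤ N') : X.pb g N ≤ X.pb g N' :=
  sp_mono h

theorem Sys.mem_pb {c d : D} (g : d ⟶ c) {N : AddSubgroup (X.M.obj (op c))} {x : X.M.obj (op c)} (h : x ∈ N) :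
    (X.M.map g.op).hom x ∈ X.pb g N := mem_sp h

theorem Sys.map_map {c d e : D} (h : e ⟶ d) (g : d ⟶ c) (x : X.M.obj (op c)) :
    (X.M.map h.op).hom ((X.M.map g.op).hom x) = (X.M.map (h ≫ g).op).hom x := by
  rw [op_comp, Functor.map_comp, CommRingCat.hom_comp]
  rfl

theorem Sys.mem_of_ff {c d : D} (g : d ⟶ c) (hg : (X.A.map g.op).hom.FaithfullyFlat)
    {N : AddSubgroup (X.M.obj (op c))} (hN : IsSub (X.ρ.app (op c)) N) {x : X.M.obj (op c)}
    (h : (X.M.map g.op).hom x ∈ X.pb g N) : x ∈ N :=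
  mem_of_faithfullyFlat (X.po g) hg hN h

/-- Charts of the groupoid of `u`. -/
structure Sys.Grp (X : Sys.{v₁, u₁, u} D) {u r : D} (s t : r ⟶ u) : Prop where
  cov : ∀ ⦃d : D⦄ (m₁ m₂ : d ⟶ u), ∃ (d' : D) (e : d' ⟶ d) (k : d' ⟶ r), (X.A.map e.op).hom.FaithfullyFlat ∧
    k ≫ s = e ≫ m₁ ∧ k ≫ t = e ≫ m₂
  fib : ∃ (r₂ : D) (π₁ π₂ : r₂ ⟶ r), π₁ ≫ t = π₂ ≫ s ∧
    IsPushout (X.A.map t.op) (X.A.map s.op) (X.A.map π₁.op) (X.A.map π₂.op)

/-- the largest stable subgroup -/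
def Sys.core (X : Sys.{v₁, u₁, u} D) {u r : D} (s t : r ⟶ u) (N : AddSubgroup (X.M.obj (op u))) :
    AddSubgroup (X.M.obj (op u)) := (X.pb t N).comap (X.M.map s.op).hom.toAddMonoidHom

theorem Sys.mem_core {u r : D} {s t : r ⟶ u} {N : AddSubgroup (X.M.obj (op u))} {x : X.M.obj (op u)} :
    x ∈ X.core s t N ↔ (X.M.map s.op).hom x ∈ X.pb t N := Iff.rfl

theorem Sys.isSub_core {u r : D} {s t : r ⟶ u} {N : AddSubgroup (X.M.obj (op u))} :
    IsSub (X.ρ.app (op u)) (X.core s t N) := by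
  intro a n hn
  rw [Sys.mem_core, map_mul]
  have h1 : (X.M.map s.op).hom ((X.ρ.app (op u)).hom a) = (X.ρ.app (op r)).hom ((X.A.map s.op).hom a) :=
    congr($(X.comm s) a)
  rw [h1]
  exact smul_mem _ hn

theorem Sys.core_le {u r : D} {s t : r ⟶ u} (H : X.Grp s t) {N : AddSubgroup (X.M.obj (op u))}
    (hN : IsSub (X.ρ.app (op u)) N) : X.core s t N ≤ N := by
  intro x hx
  obtain ⟨d', e, k, he, h1, h2⟩ := H.cov (𝟙 u) (𝟙 u)
  refine X.mem_of_ff e he hN ?_
  rw [Category.comp_id] at h1 h2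
  have h3 := X.mem_pb k (X.mem_core.1 hx)
  rw [X.map_map, X.pb_comp, h1, h2] at h3
  exact h3

theorem Sys.stable_aux {u r : D} {s t : r ⟶ u} (H : X.Grp s t) {N : AddSubgroup (X.M.obj (op u))} :
    X.pb s (X.core s t N) ≤ X.pb t (X.core s t N) := by
  refine sp_le fun a x hx => smul_mem a ?_
  obtain ⟨r₂, π₁, π₂, hπ, hpo⟩ := H.fib
  have hP := hpo.paste_vert (X.po π₂)
  have ha : X.ρ.app (op u) ≫ X.M.map s.op = X.A.map s.op ≫ X.ρ.app (op r) := (X.ρ.naturality s.op).symm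
  have hN : IsSub (X.A.map s.op ≫ X.ρ.app (op r)) (X.pb t N) := fun a n hn => X.isSub_pb t N _ n hn
  refine mem_comap (aE := X.M.map π₁.op) ha (X.flat t) (X.po t) hP (X.ρ.naturality π₁.op).symm ?_ hN ?_
  · rw [← Functor.map_comp, ← Functor.map_comp, ← op_comp, ← op_comp, hπ]
  · refine sp_push hpo (X.ρ.app (op r)) (X.ρ.app (op r₂)) (X.M.map π₂.op) (X.ρ.naturality π₂.op).symm
      (X.isSub_pb t N) ?_
    change (X.M.map π₁.op).hom ((X.M.map s.op).hom x) ∈ X.pb π₂ (X.pb t N)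
    rw [X.pb_comp, X.map_map]
    obtain ⟨d', e, k, he, h1, h2⟩ := H.cov (π₁ ≫ s) (π₂ ≫ t)
    refine X.mem_of_ff e he (X.isSub_pb _ _) ?_
    rw [X.map_map, X.pb_comp, ← h1, ← h2, ← X.pb_comp, ← X.map_map]
    exact X.mem_pb k (X.mem_core.1 hx)

theorem Sys.stable {u r : D} {s t : r ⟶ u} (H : X.Grp s t) {N : AddSubgroup (X.M.obj (op u))} {d : D}
    (m₁ m₂ : d ⟶ u) : X.pb m₁ (X.core s t N) ≤ X.pb m₂ (X.core s t N) := by
  intro x hx
  obtain ⟨d', e, k, he, h1, h2⟩ := H.cov m₁ m₂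
  refine X.mem_of_ff e he (X.isSub_pb _ _) ?_
  have h3 := X.mem_pb e hx
  rw [X.pb_comp, ← h1, ← X.pb_comp] at h3
  rw [X.pb_comp, ← h2, ← X.pb_comp]
  exact X.pb_mono k (X.stable_aux H) h3

theorem Sys.mul_mem_core {u r : D} {s t : r ⟶ u} {N : AddSubgroup (X.M.obj (op u))}
    (hN : ∀ x ∈ N, ∀ y ∈ N, x * y ∈ N) {x y : X.M.obj (op u)} (hx : x ∈ X.core s t N) (hy : y ∈ X.core s t N) :
    x * y ∈ X.core s t N := by
  rw [Sys.mem_core, map_mul]
  exact mul_mem hN (X.mem_core.1 hx) (X.mem_core.1 hy)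

theorem Sys.one_mem_core {u r : D} {s t : r ⟶ u} {N : AddSubgroup (X.M.obj (op u))} (hN : (1 : X.M.obj (op u)) ∈ N) :
    (1 : X.M.obj (op u)) ∈ X.core s t N := by
  rw [Sys.mem_core, map_one]
  exact one_mem hN

/-- `N` is a finitely generated submodule. -/
def Fg {A Q : CommRingCat.{u}} (q : A ⟶ Q) (N : AddSubgroup Q) : Prop :=
  ∃ t : Finset Q, N = sp q.hom (RingHom.id Q) (AddSubgroup.closure (t : Set Q))

theorem span_eq {A Q : CommRingCat.{u}} (q : A ⟶ Q) (t : Set Q) : letI := q.hom.toAlgebra;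
    (Submodule.span A t).toAddSubgroup = sp q.hom (RingHom.id Q) (AddSubgroup.closure t) := by
  letI := q.hom.toAlgebra
  refine le_antisymm ?_ (sp_le fun a n hn => ?_)
  · intro x hx
    change x ∈ Submodule.span A t at hx
    induction hx using Submodule.span_induction with
    | mem x hx => exact mem_sp (j := RingHom.id Q) (AddSubgroup.subset_closure hx)
    | zero => exact zero_mem _
    | add x y _ _ hx hy => exact add_mem hx hy
    | smul a x _ hx => exact smul_mem a hx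
  · have h1 : AddSubgroup.closure t ≤ (Submodule.span A t).toAddSubgroup :=
      (AddSubgroup.closure_le _).2 fun x hx => Submodule.subset_span hx
    exact (Submodule.span A t).smul_mem a (h1 hn)

theorem fg_iff {A Q : CommRingCat.{u}} {q : A ⟶ Q} {N : AddSubgroup Q} (hN : IsSub q N) :
    letI := q.hom.toAlgebra; Fg q N ↔ (subm q hN).FG := by
  letI := q.hom.toAlgebra
  constructor
  · rintro ⟨t, ht⟩
    refine ⟨t, ?_⟩
    apply Submodule.toAddSubgroup_injective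
    rw [span_eq, ← ht]
    rfl
  · rintro ⟨t, ht⟩
    refine ⟨t, ?_⟩
    rw [← span_eq, ht]
    rfl

theorem Fg.of_le {A Q : CommRingCat.{u}} [IsNoetherianRing A] {q : A ⟶ Q} {N N' : AddSubgroup Q} (hN : IsSub q N)
    (hN' : IsSub q N') (h : Fg q N') (hle : N ≤ N') : Fg q N := by
  letI := q.hom.toAlgebra
  rw [fg_iff hN]
  rw [fg_iff hN'] at h
  have : Module.Finite A (subm q hN') := Module.Finite.iff_fg.2 h
  have h1 : IsNoetherian A (subm q hN') := inferInstance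
  rw [isNoetherian_submodule] at h1
  exact h1 _ hle

theorem Sys.fg_pb {c d : D} (g : d ⟶ c) {N : AddSubgroup (X.M.obj (op c))} (hN : Fg (X.ρ.app (op c)) N) :
    Fg (X.ρ.app (op d)) (X.pb g N) := by
  classical
  obtain ⟨t, rfl⟩ := hN
  refine ⟨t.image (X.M.map g.op).hom, ?_⟩
  have h1 : X.pb g (sp (X.ρ.app (op c)).hom (RingHom.id _) (AddSubgroup.closure (t : Set _))) =
      sp (X.ρ.app (op d)).hom (X.M.map g.op).hom (AddSubgroup.closure (t : Set _)) :=
    sp_sp (X.comm g) (RingHom.comp_id _)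
  rw [h1]
  refine le_antisymm (sp_le fun a n hn => smul_mem a ?_) (sp_le fun a n hn => smul_mem a ?_)
  · have h2 : AddSubgroup.closure (t : Set _) ≤ (sp (X.ρ.app (op d)).hom (RingHom.id _)
        (AddSubgroup.closure ((t.image (X.M.map g.op).hom : Finset _) : Set _))).comap
        (X.M.map g.op).hom.toAddMonoidHom := by
      refine (AddSubgroup.closure_le _).2 fun x hx => ?_
      refine mem_sp (j := RingHom.id _) (AddSubgroup.subset_closure ?_)
      exact Finset.mem_coe.2 (Finset.mem_image_of_mem _ hx)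
    exact h2 hn
  · have h2 : AddSubgroup.closure ((t.image (X.M.map g.op).hom : Finset _) : Set _) ≤
        sp (X.ρ.app (op d)).hom (X.M.map g.op).hom (AddSubgroup.closure (t : Set _)) := by
      refine (AddSubgroup.closure_le _).2 fun x hx => ?_
      obtain ⟨y, hy, rfl⟩ := Finset.mem_image.1 (Finset.mem_coe.1 hx)
      exact mem_sp (AddSubgroup.subset_closure hy)
    exact h2 hn

/-- Existence of a stable finite subalgebra containing given integral elements. -/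
theorem Sys.exists_stable {u r : D} {s t : r ⟶ u} (H : X.Grp s t) [IsNoetherianRing (X.A.obj (op u))]
    (T : Finset (X.M.obj (op u))) (hT : ∀ x ∈ T, (X.ρ.app (op u)).hom.IsIntegralElem x) :
    ∃ F : AddSubgroup (X.M.obj (op u)), IsSub (X.ρ.app (op u)) F ∧ (1 : X.M.obj (op u)) ∈ F ∧
      (∀ x ∈ F, ∀ y ∈ F, x * y ∈ F) ∧ (∀ x ∈ T, x ∈ F) ∧ Fg (X.ρ.app (op u)) F ∧
      ∀ ⦃d : D⦄ (m₁ m₂ : d ⟶ u), X.pb m₁ F ≤ X.pb m₂ F := by
  classical
  have h1 : ∀ x : T, ∃ tx : Finset (X.M.obj (op u)), (∀ y ∈ tx, (X.ρ.app (op u)).hom.IsIntegralElem y) ∧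
      (X.M.map s.op).hom x.1 ∈ sp (X.ρ.app (op r)).hom (X.M.map t.op).hom (AddSubgroup.closure (tx : Set _)) := by
    intro x
    refine exists_integral (X.po t) (X.sm t) ?_
    obtain ⟨p, hp, h0⟩ := hT x.1 x.2
    refine ⟨p.map (X.A.map s.op).hom, hp.map _, ?_⟩
    rw [Polynomial.eval₂_map, ← X.comm s, ← Polynomial.hom_eval₂, h0, map_zero]
  choose tx htx htx' using h1
  letI := (X.ρ.app (op u)).hom.toAlgebra
  let H₀ : Subalgebra (X.A.obj (op u)) (X.M.obj (op u)) := Algebra.adjoin _ (⋃ x : T, (tx x : Set (X.M.obj (op u))))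
  let N : AddSubgroup (X.M.obj (op u)) := H₀.toSubmodule.toAddSubgroup
  have hN : IsSub (X.ρ.app (op u)) N := fun a n hn => H₀.toSubmodule.smul_mem a hn
  have hfg : Fg (X.ρ.app (op u)) N := by
    rw [fg_iff hN]
    have h2 : (Subalgebra.toSubmodule H₀).FG := fg_adjoin_of_finite (Set.finite_iUnion fun x => (tx x).finite_toSet) (by
      intro y hy
      obtain ⟨x, hx⟩ := Set.mem_iUnion.1 hy
      exact htx x y hx)
    exact h2
  have h1N : (1 : X.M.obj (op u)) ∈ N := H₀.one_mem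
  have hmN : ∀ x ∈ N, ∀ y ∈ N, x * y ∈ N := fun x hx y hy => H₀.mul_mem hx hy
  refine ⟨X.core s t N, X.isSub_core, X.one_mem_core h1N, fun x hx y hy => X.mul_mem_core hmN hx hy, fun x hx => ?_,
    Fg.of_le X.isSub_core hN hfg (X.core_le H hN), fun d m₁ m₂ => X.stable H m₁ m₂⟩
  rw [X.mem_core]
  refine sp_mono ?_ (htx' ⟨x, hx⟩)
  refine (AddSubgroup.closure_le _).2 fun y hy => ?_
  exact Algebra.subset_adjoin (Set.mem_iUnion.2 ⟨⟨x, hx⟩, hy⟩)

end K736.Sub
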